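import Cfsg.Agent.Mrg.Omega.TV.Basic_m3
import Cfsg.Agent.Mrg.Omega.OM.YThm.FfRep_m3
import Cfsg.Agent.Mrg.Omega.IId.ThmJFull_m3
import Cfsg.Agent.Mrg.Omega.NSix.RCaseTwo_m3
import Cfsg.Agent.ZN.ChoiceNse
import Cfsg.Agent.Mrg.Omega.Assembly
import Cfsg.Agent.Mrg.Omega.BTwo.Basic
import Cfsg.Agent.Mrg.Omega.VP
import Cfsg.Agent.Mrg.Omega.SQ1.Choice
import Cfsg.Agent.FastGrp
import Cfsg.Agent.Prune
set_option linter.all false
prune_inst 0x7ffcfef8afbcbfffffff7e7fa7fdcffdfdb8bfffe6fffd7bffedfbff5bff4be7cff5fba7efef90feeed6e21c10f87bd3fbffefffe26bdc7ffffd5ff45fffff9fffffbd0971d79c3e0ffc6ffffbf2ffae7f3fffffffffffffffffffffffffffffffbfffffffff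
open scoped Cfsg.Agent.FastGrp

-- merged: Cfsg.Agent.Mrg.Omega.NSix.TvEnd
section

/-!
# OMEGA N6, #16862 (helper556) / #16318 (helper324) (2): TV on `U = ⟨r₁₂^X⟩ ≥ V`  (helper537)

`ρ : H →* GL(U)`, `e : 𝔽₂ⁿ → U` with kernel `{0, 1}`, `n` odd, the pairs `e {i, j}` are points (in the orbit `Om`)
and centres of transvections which act on `e(𝔽₂ⁿ)` as `(i j)`.

* `Dat.big_mem` : if there are two transvections with the same centre, every non-trivial even set is a point;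
* `Dat.small_mem` : otherwise `U = e(𝔽₂ⁿ)`, provided that a 2-subgroup which normalises `e(𝔽₂ⁿ)` has its fixed
  points in `e(𝔽₂ⁿ)`.
-/

set_option autoImplicit false

namespace Cfsg.Agent.Omega.NSix.TvEnd

open Module Cfsg.Agent.Omega.TV

variable {H : Type*} [Group H] {U : Type*} [AddCommGroup U] [Module (ZMod 2) U]
  {ρ : H →* (U ≃ₗ[ZMod 2] U)} {Om : Set U} {n : ℕ}

/-- the pair `{i, j}` -/
def pr (i j : Fin n) : Fin n → ZMod 2 := Pi.single i 1 + Pi.single j 1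

theorem pr_apply (i j k : Fin n) : pr i j k = (if k = i then 1 else 0) + (if k = j then 1 else 0) := by
  simp [pr, Pi.single_apply]

theorem pr_self (i : Fin n) : pr i i = 0 := by
  funext k
  rw [pr_apply]
  exact z2_add_self _

theorem sum_one (hn : Odd n) : ∑ _l : Fin n, (1 : ZMod 2) = 1 := by
  rw [Finset.sum_const, Finset.card_univ, Fintype.card_fin, nsmul_eq_mul, mul_one]
  obtain ⟨k, rfl⟩ := hn
  push_cast
  rw [show (2 : ZMod 2) = 0 from rfl]
  ring

theorem sum_pr (i j : Fin n) : ∑ l, pr i j l = 0 := by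
  simp only [Finset.sum_add_distrib, pr_apply]
  rw [Finset.sum_ite_eq' Finset.univ i, Finset.sum_ite_eq' Finset.univ j,
    if_pos (Finset.mem_univ _), if_pos (Finset.mem_univ _)]
  decide

/-- The data. -/
structure Dat (ρ : H →* (U ≃ₗ[ZMod 2] U)) (Om : Set U) (e : (Fin n → ZMod 2) →ₗ[ZMod 2] U) : Prop where
  sys : Sys ρ Om
  one : e 1 = 0
  mem : ∀ i j, i ≠ j → e (pr i j) ∈ Om
  fn : ∀ i j, i ≠ j → ∃ φ, Fn ρ (e (pr i j)) φ ∧ ∀ x, φ (e x) = x i + x j

namespace Dat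

variable {e : (Fin n → ZMod 2) →ₗ[ZMod 2] U} (h : Dat ρ Om e)
include h

theorem adj {i j : Fin n} (hij : i ≠ j) {x : Fin n → ZMod 2} (hx : x i + x j = 1) :
    Adj ρ (e (pr i j)) (e x) := by
  obtain ⟨φ, h1, h2⟩ := h.fn i j hij
  exact ⟨φ, h1, by rw [h2, hx]⟩

/-- **Big case.** -/
theorem big_mem [Finite U] (hn : Odd n) (hb : Sys.Big ρ Om) :
    ∀ (k : ℕ) (x : Fin n → ZMod 2), (Finset.univ.filter fun i => x i = 1).card = k →
      ∑ i, x i = 0 → x ≠ 0 → e x ∈ Om := by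
  intro k
  induction k using Nat.strong_induction_on with
  | _ k IH =>
    intro x hk hx hx0
    classical
    -- two elements of the support
    obtain ⟨i, hi⟩ : ∃ i, x i = 1 := by
      by_contra hcon
      push Not at hcon
      exact hx0 (funext fun i => z2_ne_one (hcon i))
    obtain ⟨j, hji, hj⟩ : ∃ j, j ≠ i ∧ x j = 1 := by
      by_contra hcon
      push Not at hcon
      have h1 : ∑ l, x l = x i := by
        rw [← Finset.add_sum_erase _ _ (Finset.mem_univ i)]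
        rw [Finset.sum_eq_zero (fun l hl => z2_ne_one (hcon l (Finset.ne_of_mem_erase hl))), add_zero]
      rw [hx, hi] at h1
      exact zero_ne_one h1
    have hij : i ≠ j := hji.symm
    set y := x + pr i j with hy
    by_cases hy0 : y = 0
    · have : x = pr i j := v_eq_of_add hy0
      rw [this]
      exact h.mem i j hij
    have hyi : y i = 0 := by
      rw [hy, Pi.add_apply, pr_apply, hi, if_pos rfl, if_neg hij]; decide
    have hyj : y j = 0 := by
      rw [hy, Pi.add_apply, pr_apply, hj, if_pos rfl, if_neg hji]; decide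
    have hyk : ∀ l, l ≠ i → l ≠ j → y l = x l := by
      intro l h1 h2
      rw [hy, Pi.add_apply, pr_apply, if_neg h1, if_neg h2, add_zero, add_zero]
    have hsum : ∑ l, y l = 0 := by
      rw [hy]
      simp only [Pi.add_apply, Finset.sum_add_distrib, hx, sum_pr, zero_add]
    have hsub : (Finset.univ.filter fun l => y l = 1) ⊂ (Finset.univ.filter fun l => x l = 1) := by
      rw [Finset.ssubset_iff_subset_ne]
      constructor
      · intro l hl
        rw [Finset.mem_filter] at hl ⊢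
        refine ⟨hl.1, ?_⟩
        have h1 : l ≠ i := by rintro rfl; rw [hyi] at hl; exact zero_ne_one hl.2
        have h2 : l ≠ j := by rintro rfl; rw [hyj] at hl; exact zero_ne_one hl.2
        rw [← hyk l h1 h2]; exact hl.2
      · intro he
        have h1 : i ∈ (Finset.univ.filter fun l => y l = 1) := by
          rw [he, Finset.mem_filter]; exact ⟨Finset.mem_univ _, hi⟩
        rw [Finset.mem_filter, hyi] at h1
        exact zero_ne_one h1.2
    have hyOm : e y ∈ Om := IH _ (by rw [← hk]; exact Finset.card_lt_card hsub) y rfl hsum hy0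
    obtain ⟨l, hl⟩ : ∃ l, y l = 1 := by
      by_contra hcon
      push Not at hcon
      exact hy0 (funext fun i => z2_ne_one (hcon i))
    have hli : i ≠ l := by rintro rfl; rw [hyi] at hl; exact zero_ne_one hl
    have hlj : j ≠ l := by rintro rfl; rw [hyj] at hl; exact zero_ne_one hl
    have hp := h.mem i j hij
    have hq := h.mem i l hli
    have a1 : Adj ρ (e (pr i l)) (e y) := h.adj hli (by rw [hyi, hl, zero_add])
    have a2 : Adj ρ (e (pr i l)) (e (pr i j)) := h.adj hli (by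
      rw [pr_apply, pr_apply, if_pos rfl, if_neg hij, if_neg hli.symm, if_neg hlj.symm]; decide)
    have hne : e y ≠ e (pr i j) := by
      intro he
      have hy1 : ∀ a b : Fin n, a ≠ b → y a + y b = pr i j a + pr i j b := by
        intro a b hab
        obtain ⟨κ, -, hκ⟩ := h.fn a b hab
        rw [← hκ y, ← hκ (pr i j), he]
      -- then `x = y + {i, j}` is constant
      have hx1 : ∀ a b : Fin n, x a = x b := by
        intro a b
        by_cases hab : a = b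
        · rw [hab]
        have h4 := hy1 a b hab
        rw [hy, Pi.add_apply, Pi.add_apply] at h4
        have h5 : x a + x b = 0 := by
          have h6 : x a + x b = (x a + pr i j a + (x b + pr i j b)) + (pr i j a + pr i j b) := by
            calc x a + x b = x a + x b + (pr i j a + pr i j a) + (pr i j b + pr i j b) := by
                  rw [z2_add_self, z2_add_self, add_zero, add_zero]
              _ = _ := by ring
          rw [h6, h4, z2_add_self]
        exact v_eq_of_add h5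
      have hx2 : ∑ l, x l = 1 := by
        rw [Finset.sum_congr rfl (fun l _ => (hx1 l i).trans hi), sum_one hn]
      rw [hx] at hx2
      exact zero_ne_one hx2
    have hnear : Sys.Near ρ Om (e y) (e (pr i j)) := ⟨_, hq, h.sys.symm hq hyOm a1, a2⟩
    have hadj := h.sys.adj_of_near hb hyOm hp hne hnear
    have h1 := h.sys.add_mem hp hadj
    have h2 : e (pr i j) + e y = e x := by
      rw [← map_add, hy, add_comm x, ← add_assoc, v_add_self, zero_add]
    rwa [h2] at h1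

omit h in
/-- a fixed vector of a 2-group in an invariant non-trivial submodule -/
theorem exists_fixed [Finite U] {S : Subgroup H} (hS : IsPGroup 2 S) (W : Submodule (ZMod 2) U)
    (hW : ∀ s ∈ S, ∀ w ∈ W, ρ s w ∈ W) (hne : W ≠ ⊥) :
    ∃ w ∈ W, w ≠ 0 ∧ ∀ s ∈ S, ρ s w = w := by
  have : Fact (Nat.Prime 2) := ⟨Nat.prime_two⟩
  let act : MulAction S W :=
    { smul := fun s w => ⟨ρ s w, hW s s.2 w w.2⟩
      one_smul := fun w => Subtype.ext (by
        change ρ ((1 : S) : H) (w : U) = w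
        rw [OneMemClass.coe_one, map_one]; rfl)
      mul_smul := fun s t w => Subtype.ext (by
        change ρ ((s * t : S) : H) (w : U) = ρ s (ρ t w)
        rw [Subgroup.coe_mul, rmul]) }
  have h2 : 2 ∣ Nat.card W := by
    obtain ⟨w, hw, hw0⟩ := W.ne_bot_iff.1 hne
    have : Finite W := Finite.of_injective (fun w : W => (w : U)) Subtype.val_injective
    have h3 : addOrderOf (⟨w, hw⟩ : W) = 2 := by
      refine addOrderOf_eq_prime ?_ (fun e => hw0 (congrArg Subtype.val e))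
      rw [two_nsmul]
      exact Subtype.ext (v_add_self w)
    exact h3.symm.dvd.trans (addOrderOf_dvd_natCard (⟨w, hw⟩ : W))
  have : Finite W := Finite.of_injective (fun w : W => (w : U)) Subtype.val_injective
  have h0 : (0 : W) ∈ MulAction.fixedPoints S W := by
    intro s
    exact Subtype.ext (map_zero (ρ s))
  obtain ⟨b, hb, hb0⟩ := hS.exists_fixed_point_of_prime_dvd_card_of_fixed_point W h2 h0
  refine ⟨b, b.2, fun e => hb0 (Subtype.ext e.symm), fun s hs => ?_⟩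
  exact congrArg Subtype.val (hb ⟨s, hs⟩)

/-- **Small case.** -/
theorem small_mem [Finite U] [NeZero n] (hn : Odd n) (hs : Sys.Small ρ Om) {S : Subgroup H}
    (hS : IsPGroup 2 S) (hfix : ∀ u, (∀ s ∈ S, ρ s u = u) → ∃ x, e x = u)
    (hinv : ∀ s ∈ S, ∀ x, ∃ y, ρ s (e x) = e y) (u : U) : ∃ x, e x = u := by
  classical
  obtain ⟨f, hf⟩ := h.sys.exists_form hs
  have hfp : ∀ i j, ∀ x, f (e (pr i j)) (e x) = x i + x j := by
    intro i j x
    by_cases hij : i = j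
    · rw [hij, pr_self, map_zero, map_zero, LinearMap.zero_apply, z2_add_self]
    obtain ⟨φ, h1, h2⟩ := h.fn i j hij
    have h3 : φ ≠ 0 := by
      intro h0
      have h4 := h2 (Pi.single i 1)
      rw [h0, LinearMap.zero_apply, Pi.single_eq_same, Pi.single_eq_of_ne (Ne.symm hij), add_zero] at h4
      exact zero_ne_one h4
    rw [← hf.uniq _ (h.mem i j hij) φ h3 h1]
    exact h2 x
  -- an even vector is a sum of pairs `{0, i}`
  have hev : ∀ y : Fin n → ZMod 2, ∑ i, y i = 0 → y = ∑ i, y i • pr 0 i := by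
    intro y hy
    funext k
    rw [Finset.sum_apply]
    simp only [Pi.smul_apply, smul_eq_mul, pr_apply, mul_add, Finset.sum_add_distrib]
    rw [← Finset.sum_mul, hy, zero_mul, zero_add]
    simp
  have hfe : ∀ y : Fin n → ZMod 2, ∑ i, y i = 0 → ∀ w : U,
      f (e y) w = ∑ i, y i * f (e (pr 0 i)) w := by
    intro y hy w
    conv_lhs => rw [hev y hy]
    simp only [map_sum, map_smul, LinearMap.sum_apply, LinearMap.smul_apply, smul_eq_mul]
  have hodd : ∀ y : Fin n → ZMod 2, ∃ y', e y' = e y ∧ ∑ i, y' i = 0 := by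
    intro y
    rcases z2 (∑ i, y i) with h1 | h1
    · exact ⟨y, rfl, h1⟩
    · refine ⟨y + 1, by rw [map_add, h.one, add_zero], ?_⟩
      simp only [Pi.add_apply, Pi.one_apply, Finset.sum_add_distrib, h1, sum_one hn]
      decide
  let W : Submodule (ZMod 2) U :=
    { carrier := {w | ∀ x, f (e x) w = 0}
      zero_mem' := fun x => map_zero _
      add_mem' := fun ha hb x => by rw [map_add, ha x, hb x, add_zero]
      smul_mem' := fun c w hw x => by rw [map_smul, hw x, smul_zero] }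
  have hWinv : ∀ s ∈ S, ∀ w ∈ W, ρ s w ∈ W := by
    intro s hs w hw x
    obtain ⟨y, hy⟩ := hinv s⁻¹ (inv_mem hs) x
    have h1 := hf.inv s⁻¹ (e x) (ρ s w)
    rw [rinv, hy] at h1
    rw [← h1]
    exact hw y
  have hW : W = ⊥ := by
    by_contra hne
    obtain ⟨w, hw, hw0, hws⟩ := exists_fixed hS W hWinv hne
    obtain ⟨x, rfl⟩ := hfix w hws
    apply hw0
    have h1 : ∀ i, x i = x 0 := by
      intro i
      have h2 := hw (pr i 0)
      rw [hfp] at h2
      exact v_eq_of_add h2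
    rcases z2 (x 0) with h2 | h2
    · have : x = 0 := funext fun i => (h1 i).trans h2
      rw [this, map_zero]
    · have : x = 1 := funext fun i => (h1 i).trans h2
      rw [this, h.one]
  set x : Fin n → ZMod 2 := fun i => f (e (pr 0 i)) u with hx
  have hx0 : x 0 = 0 := by
    change f (e (pr 0 0)) u = 0
    rw [pr_self, map_zero, map_zero, LinearMap.zero_apply]
  refine ⟨x, ?_⟩
  have h1 : u + e x ∈ W := by
    intro y
    obtain ⟨y', hy', hy0⟩ := hodd y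
    rw [← hy', hfe y' hy0]
    have h2 : ∀ i, y' i * f (e (pr 0 i)) (u + e x) = 0 := by
      intro i
      rw [map_add, hfp, hx0, zero_add]
      change y' i * (x i + x i) = 0
      rw [z2_add_self, mul_zero]
    rw [Finset.sum_congr rfl (fun i _ => h2 i), Finset.sum_const_zero]
  rw [hW, Submodule.mem_bot] at h1
  exact (v_eq_of_add h1).symm

end Dat

end Cfsg.Agent.Omega.NSix.TvEnd

end

-- merged: Cfsg.Agent.Mrg.Omega.NSix.TvGroup
section

/-!
# OMEGA N6, #16862 (helper556) / #16318 (helper324) (2): TV inside a group  (helper537)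

* `chain_of` : `O₂(X / C_X(N)) = 1` for `N = ⟨z^X⟩`, `z` centralised by a Sylow 2-subgroup of `X`;
* `eq_of_tv` : `V ≤ U` the even-subset module of `P ≤ X`, `U = ⟨r^X⟩` elementary abelian (`TV.GSys`), `t ∈ X` a
  transvection of `U` with centre `r = r_ij`, acting on `V` as `(i j)`, `z_0` not conjugate to `r` in `X`,
  `C_U(S) ≤ V` for a 2-subgroup `S` of `P`: then `U = V`.
-/

set_option autoImplicit false

namespace Cfsg.Agent.Omega.NSix.TvGroup

open Subgroup Cfsg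
open Cfsg.Agent.Omega.TV
open Cfsg.Agent.Omega.S5.Def
open Cfsg.Agent.Omega.NSix.Base Cfsg.Agent.Omega.NSix.Basic
open Cfsg.Agent.Omega.NSix.TvEnd (pr Dat)
open Cfsg.Agent.Omega.IId.ThmJ (exists_mem_sylow_of_sq)

universe u

variable {G : Type u} [Group G]

/-- `O₂(X / C_X(N)) = 1`. -/
theorem chain_of [Finite G] {X N T : Subgroup G} {z : G} (hsqN : ∀ x ∈ N, x * x = 1)
    (hnor : ∀ c ∈ X, ∀ n ∈ N, c * n * c⁻¹ ∈ N) (hzN : z ∈ N)
    (hgen : N ≤ closure {x | ∃ c ∈ X, x = c * z * c⁻¹}) (hTX : T ≤ X) (hT : IsPGroup 2 T)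
    (hi : ¬ 2 ∣ T.relIndex X) (hTz : ∀ t ∈ T, t * z * t⁻¹ = z) :
    ∀ U : Subgroup G, U ≤ N → (∀ c ∈ X, ∀ u ∈ U, c * u * c⁻¹ ∈ U) →
      ∀ c ∈ X, (∀ u ∈ U, c * u * c⁻¹ = u) → (∀ n ∈ N, c * n * c⁻¹ * n⁻¹ ∈ U) →
        ∀ n ∈ N, c * n * c⁻¹ = n := by
  have : Fact (Nat.Prime 2) := ⟨Nat.prime_two⟩
  intro U hUN hU c hc hcU hcN n hn
  -- the kernel of the action and the stabilizer of the chain, inside `X`
  let F : Subgroup X :=
    { carrier := {c | ∀ n ∈ N, (c : G) * n * (c : G)⁻¹ = n}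
      one_mem' := fun n _ => by simp
      mul_mem' := by
        intro a b ha hb n hn
        have e : ((a * b : X) : G) * n * ((a * b : X) : G)⁻¹
            = (a : G) * ((b : G) * n * (b : G)⁻¹) * (a : G)⁻¹ := by
          rw [Subgroup.coe_mul]; group
        rw [e, hb n hn, ha n hn]
      inv_mem' := by
        intro a ha n hn
        have e : ((a⁻¹ : X) : G) * n * ((a⁻¹ : X) : G)⁻¹
            = (a : G)⁻¹ * n * (a : G) := by
          rw [Subgroup.coe_inv]; group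
        rw [e]
        nth_rewrite 1 [← ha n hn]
        group }
  let K : Subgroup X :=
    { carrier := {c | (∀ u ∈ U, (c : G) * u * (c : G)⁻¹ = u) ∧
        ∀ n ∈ N, (c : G) * n * (c : G)⁻¹ * n⁻¹ ∈ U}
      one_mem' := ⟨fun u _ => by simp, fun n _ => by simp⟩
      mul_mem' := by
        rintro a b ⟨ha, ha'⟩ ⟨hb, hb'⟩
        refine ⟨fun u hu => ?_, fun n hn => ?_⟩
        · have e : ((a * b : X) : G) * u * ((a * b : X) : G)⁻¹
              = (a : G) * ((b : G) * u * (b : G)⁻¹) * (a : G)⁻¹ := by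
            rw [Subgroup.coe_mul]; group
          rw [e, hb u hu, ha u hu]
        · have h1 := hb' n hn
          have h2 := ha' n hn
          have e : ((a * b : X) : G) * n * ((a * b : X) : G)⁻¹ * n⁻¹
              = (a : G) * ((b : G) * n * (b : G)⁻¹ * n⁻¹) * (a : G)⁻¹ *
                ((a : G) * n * (a : G)⁻¹ * n⁻¹) := by
            rw [Subgroup.coe_mul]; group
          rw [e]
          exact mul_mem (hU a a.2 _ h1) h2
      inv_mem' := by
        rintro a ⟨ha, ha'⟩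
        have hinv : ∀ u ∈ U, (a : G)⁻¹ * u * (a : G) = u := by
          intro u hu
          nth_rewrite 1 [← ha u hu]
          group
        refine ⟨fun u hu => ?_, fun n hn => ?_⟩
        · have e : ((a⁻¹ : X) : G) * u * ((a⁻¹ : X) : G)⁻¹
              = (a : G)⁻¹ * u * (a : G) := by
            rw [Subgroup.coe_inv]; group
          rw [e, hinv u hu]
        · have h1 := ha' n hn
          have e : ((a⁻¹ : X) : G) * n * ((a⁻¹ : X) : G)⁻¹ * n⁻¹
              = (a : G)⁻¹ * ((a : G) * n * (a : G)⁻¹ * n⁻¹)⁻¹ * (a : G) := by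
            rw [Subgroup.coe_inv]; group
          rw [e, hinv _ (inv_mem h1)]
          exact inv_mem h1 }
  have hFn : F.Normal := by
    constructor
    intro a ha g n hn
    have hn' : (g : G)⁻¹ * n * (g : G) ∈ N := by
      have := hnor _ (inv_mem g.2) n hn
      simpa using this
    have e : ((g * a * g⁻¹ : X) : G) * n * ((g * a * g⁻¹ : X) : G)⁻¹
        = (g : G) * ((a : G) * ((g : G)⁻¹ * n * (g : G)) * (a : G)⁻¹) * (g : G)⁻¹ := by
      simp only [Subgroup.coe_mul, Subgroup.coe_inv]; group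
    rw [e, ha _ hn']
    group
  have hKn : K.Normal := by
    constructor
    rintro a ⟨ha, ha'⟩ g
    refine ⟨fun u hu => ?_, fun n hn => ?_⟩
    · have hu' : (g : G)⁻¹ * u * (g : G) ∈ U := by
        have := hU _ (inv_mem g.2) u hu
        simpa using this
      have e : ((g * a * g⁻¹ : X) : G) * u * ((g * a * g⁻¹ : X) : G)⁻¹
          = (g : G) * ((a : G) * ((g : G)⁻¹ * u * (g : G)) * (a : G)⁻¹) * (g : G)⁻¹ := by
        simp only [Subgroup.coe_mul, Subgroup.coe_inv]; group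
      rw [e, ha _ hu']
      group
    · have hn' : (g : G)⁻¹ * n * (g : G) ∈ N := by
        have := hnor _ (inv_mem g.2) n hn
        simpa using this
      have h1 := hU g g.2 _ (ha' _ hn')
      have e : ((g * a * g⁻¹ : X) : G) * n * ((g * a * g⁻¹ : X) : G)⁻¹ * n⁻¹
          = (g : G) * ((a : G) * ((g : G)⁻¹ * n * (g : G)) * (a : G)⁻¹ *
            ((g : G)⁻¹ * n * (g : G))⁻¹) * (g : G)⁻¹ := by
        simp only [Subgroup.coe_mul, Subgroup.coe_inv]; group
      rw [e]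
      exact h1
  have hsqK : ∀ k ∈ K, k * k ∈ F := by
    rintro k ⟨hk, hk'⟩ n hn
    have h1 := hk' n hn
    have h2 := hsqN _ (hUN h1)
    have e1 : (k : G) * n * (k : G)⁻¹ = (k : G) * n * (k : G)⁻¹ * n⁻¹ * n := by group
    have e2 : ((k * k : X) : G) * n * ((k * k : X) : G)⁻¹
        = (k : G) * ((k : G) * n * (k : G)⁻¹) * (k : G)⁻¹ := by
      rw [Subgroup.coe_mul]; group
    rw [e2, e1]
    have e3 : (k : G) * ((k : G) * n * (k : G)⁻¹ * n⁻¹ * n) * (k : G)⁻¹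
        = (k : G) * ((k : G) * n * (k : G)⁻¹ * n⁻¹) * (k : G)⁻¹ *
          ((k : G) * n * (k : G)⁻¹ * n⁻¹) * n := by group
    rw [e3, hk _ h1, h2, one_mul]
  have hTS : IsPGroup 2 (T.subgroupOf X) := hT.of_equiv (subgroupOfEquivOfLe hTX).symm
  -- `K` centralizes `z`
  have hKq : ∀ k ∈ K, (k : G) * z * (k : G)⁻¹ = z := by
    intro k hk
    obtain ⟨t, ht, hf⟩ := exists_mem_sylow_of_sq (hTS.toSylow hi) hKn hFn hsqK hk
    have ht' : (t : G) ∈ T := ht
    have htq := hTz _ ht'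
    have h1 := hf z hzN
    have e : (k : G) * z * (k : G)⁻¹
        = (t : G) * (((t⁻¹ * k : X) : G) * z * ((t⁻¹ * k : X) : G)⁻¹) * (t : G)⁻¹ := by
      simp only [Subgroup.coe_mul, Subgroup.coe_inv]; group
    rw [e, h1, htq]
  -- hence all conjugates of `z`, hence `N`
  have hKall : ∀ x ∈ closure {x | ∃ c ∈ X, x = c * z * c⁻¹}, ∀ k ∈ K,
      (k : G) * x * (k : G)⁻¹ = x := by
    intro x hx
    induction hx using closure_induction with
    | mem x hx =>
      obtain ⟨d, hd, rfl⟩ := hx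
      intro k hk
      have h1 := hKq _ (hKn.conj_mem k hk (⟨d, hd⟩⁻¹ : X))
      have e : (k : G) * (d * z * d⁻¹) * (k : G)⁻¹
          = d * ((((⟨d, hd⟩⁻¹ * k * ((⟨d, hd⟩ : X)⁻¹)⁻¹ : X)) : G) * z *
            (((⟨d, hd⟩⁻¹ * k * ((⟨d, hd⟩ : X)⁻¹)⁻¹ : X)) : G)⁻¹) * d⁻¹ := by
        simp only [Subgroup.coe_mul, Subgroup.coe_inv]; group
      rw [e, h1]
    | one => intro k _; simp
    | mul x y _ _ hx hy =>
      intro k hk
      have e : (k : G) * (x * y) * (k : G)⁻¹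
          = (k : G) * x * (k : G)⁻¹ * ((k : G) * y * (k : G)⁻¹) := by group
      rw [e, hx k hk, hy k hk]
    | inv x _ hx =>
      intro k hk
      have e : (k : G) * x⁻¹ * (k : G)⁻¹ = ((k : G) * x * (k : G)⁻¹)⁻¹ := by group
      rw [e, hx k hk]
  exact hKall n (hgen hn) ⟨c, hc⟩ ⟨hcU, hcN⟩

/-- **TV in the group.** -/
theorem eq_of_tv [Finite G] {n : ℕ} [NeZero n] (hn : Odd n) (hn3 : 3 ≤ n) {V P X U : Subgroup G}
    {ε : (Fin n → ZMod 2) → G} (ev : EvenSet n V P ε) (hPX : P ≤ X) (hVU : V ≤ U) {i₀ j₀ : Fin n}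
    (hij : i₀ ≠ j₀) (gs : GSys X U (rr ε i₀ j₀)) {t : G} (ht : t ∈ X)
    (htU : ∀ u ∈ U, t * u * t⁻¹ = u ∨ t * u * t⁻¹ = u * rr ε i₀ j₀)
    (htV : Acts ε t (Equiv.swap i₀ j₀)) (hz : ¬ ∃ c ∈ X, zz ε 0 = c * rr ε i₀ j₀ * c⁻¹)
    {S : Subgroup G} (hS2 : IsPGroup 2 S) (hSP : S ≤ P)
    (hfix : ∀ u ∈ U, (∀ s ∈ S, s * u * s⁻¹ = u) → u ∈ V) : U ≤ V := by
  classical
  let e' : (Fin n → ZMod 2) →+ EA U gs.sq :=
    { toFun := fun x => EA.mk gs.sq (ε x) (hVU (ev.mem x))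
      map_zero' := EA.ext (by rw [EA.val_mk, EA.val_zero]; exact ev.zero)
      map_add' := fun x y => EA.ext (by rw [EA.val_add, EA.val_mk, EA.val_mk, EA.val_mk]; exact ev.add x y) }
  let e : (Fin n → ZMod 2) →ₗ[ZMod 2] EA U gs.sq := AddMonoidHom.toZModLinearMap 2 e'
  have he : ∀ x, (e x).val = ε x := fun x => rfl
  have hrr : ∀ i j, ε (pr i j) = rr ε i j := fun i j => ev.add _ _
  have hone : e 1 = 0 := EA.ext (by rw [he, EA.val_zero]; exact (ev.ker 1).2 (Or.inr rfl))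
  have hne : ∃ u ∈ U, t * u * t⁻¹ ≠ u := by
    refine ⟨zz ε i₀, hVU (zz_mem ev i₀), fun h1 => ?_⟩
    have h2 := zz_conj htV i₀
    rw [h1, Equiv.swap_apply_left] at h2
    exact hij (ev.single_inj hn3 h2)
  have sys := gs.toSys ht htU hne
  obtain ⟨φ₀, hφ₀, hfn₀⟩ := gs.exists_fn gs.mem gs.ne ht htU
  have hr0 : EA.mk gs.sq (rr ε i₀ j₀) gs.mem ≠ 0 := fun h0 => gs.ne (EA.val_eq_one.2 h0)
  have her : e (pr i₀ j₀) = EA.mk gs.sq (rr ε i₀ j₀) gs.mem := EA.ext (by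
    rw [he, EA.val_mk]; exact hrr _ _)
  -- the functional of `t` on `V`
  have hφV : ∀ x, φ₀ (e x) = x i₀ + x j₀ := by
    intro x
    have h1 := hφ₀ (e x)
    have h2 : gs.rep ⟨t, ht⟩ (e x) = e (x ∘ (Equiv.swap i₀ j₀).symm) := EA.ext (by
      rw [gs.val_rep, he, he]; exact htV x)
    have h3 : x ∘ (Equiv.swap i₀ j₀).symm = x + (x i₀ + x j₀) • pr i₀ j₀ := by
      funext k
      rw [Function.comp_apply, Equiv.symm_swap, Pi.add_apply, Pi.smul_apply, TvEnd.pr_apply, smul_eq_mul]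
      by_cases c1 : k = i₀
      · rw [c1, Equiv.swap_apply_left, if_pos rfl, if_neg hij, add_zero, mul_one, ← add_assoc,
          z2_add_self, zero_add]
      by_cases c2 : k = j₀
      · rw [c2, Equiv.swap_apply_right, if_neg hij.symm, if_pos rfl, zero_add, mul_one, add_comm (x i₀),
          ← add_assoc, z2_add_self, zero_add]
      · rw [Equiv.swap_apply_of_ne_of_ne c1 c2, if_neg c1, if_neg c2, add_zero, mul_zero, add_zero]
    rw [h2, h3, map_add, map_smul, her] at h1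
    have h4 := add_left_cancel h1
    rcases z2 (φ₀ (e x)) with a | a <;> rcases z2 (x i₀ + x j₀) with b | b
    · rw [a, b]
    · rw [a, b, one_smul, zero_smul] at h4; exact absurd h4 hr0
    · rw [a, b, one_smul, zero_smul] at h4; exact absurd h4.symm hr0
    · rw [a, b]
  have hexp : ∀ i j, i ≠ j → ∃ (g : G) (_ : g ∈ P) (σ : Equiv.Perm (Fin n)), Acts ε g σ ∧ σ i₀ = i ∧
      σ j₀ = j := by
    intro i j hij'
    obtain ⟨σ, h1, h2, -⟩ := exists_perm hij hij'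
    obtain ⟨g, hg, hσ⟩ := ev.full σ
    exact ⟨g, hg, σ, hσ, h1, h2⟩
  have dat : Dat gs.rep gs.pts e := by
    refine ⟨sys, hone, fun i j hij' => ?_, fun i j hij' => ?_⟩
    · obtain ⟨g, hg, σ, hσ, h1, h2⟩ := hexp i j hij'
      refine ⟨g, hPX hg, ?_⟩
      rw [he, hrr, ← h1, ← h2, rr_conj hσ]
    · obtain ⟨g, hg, σ, hσ, h1, h2⟩ := hexp i j hij'
      have h3 := hfn₀.conj (⟨g, hPX hg⟩ : X)
      have h4 : gs.rep ⟨g, hPX hg⟩ (EA.mk gs.sq (rr ε i₀ j₀) gs.mem) = e (pr i j) := EA.ext (by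
        rw [gs.val_rep, he, hrr, ← h1, ← h2, ← rr_conj hσ, EA.val_mk])
      rw [h4] at h3
      refine ⟨_, h3, fun x => ?_⟩
      have h5 : gs.rep (⟨g, hPX hg⟩ : X)⁻¹ (e x) = e (x ∘ σ) := EA.ext (by
        rw [gs.val_rep, he, he]
        have h6 := hσ.inv x
        exact h6)
      rw [LinearMap.comp_apply]
      change φ₀ (gs.rep (⟨g, hPX hg⟩ : X)⁻¹ (e x)) = _
      rw [h5, hφV, Function.comp_apply, Function.comp_apply, h1, h2]
  rcases sys.small_or_big with hs | hb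
  · intro u hu
    have hA : ∀ u : EA U gs.sq, (∀ s ∈ S.subgroupOf X, gs.rep s u = u) → ∃ x, e x = u := by
      intro u hu
      have h1 : u.val ∈ V := hfix u.val u.val_mem (fun s hs => by
        have h2 := congrArg EA.val (hu ⟨s, hPX (hSP hs)⟩ (mem_subgroupOf.2 hs))
        rwa [gs.val_rep] at h2)
      obtain ⟨x, hx⟩ := ev.surj _ h1
      exact ⟨x, EA.ext (by rw [he, hx])⟩
    have hB : ∀ s ∈ S.subgroupOf X, ∀ x, ∃ y, gs.rep s (e x) = e y := by
      intro s hs x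
      have hs' : (s : G) ∈ S := mem_subgroupOf.1 hs
      obtain ⟨σ, hσ⟩ := ev.perm _ (hSP hs')
      exact ⟨x ∘ σ.symm, EA.ext (by rw [gs.val_rep, he, he]; exact hσ x)⟩
    obtain ⟨x, hx⟩ := dat.small_mem hn hs (S := S.subgroupOf X)
      (hS2.comap_of_injective X.subtype X.subtype_injective) hA hB (EA.mk gs.sq u hu)
    have h1 := congrArg EA.val hx
    rw [he, EA.val_mk] at h1
    rw [← h1]
    exact ev.mem x
  · exfalso
    apply hz
    have h1 : e (1 + Pi.single 0 1) ∈ gs.pts := by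
      refine dat.big_mem hn hb _ _ rfl ?_ ?_
      · simp only [Pi.add_apply, Pi.one_apply, Finset.sum_add_distrib, TvEnd.sum_one hn]
        rw [Finset.sum_pi_single' 0 (1 : ZMod 2) Finset.univ, if_pos (Finset.mem_univ _)]
        decide
      · intro h0
        have h2 := congrFun h0 ⟨1, by omega⟩
        have h3 : (⟨1, by omega⟩ : Fin n) ≠ 0 := by
          intro h; simp [Fin.ext_iff] at h
        rw [Pi.add_apply, Pi.one_apply, Pi.single_eq_of_ne h3, add_zero, Pi.zero_apply] at h2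
        exact one_ne_zero h2
    rw [map_add, hone, zero_add] at h1
    obtain ⟨c, hc, h2⟩ := h1
    exact ⟨c, hc, h2⟩

end Cfsg.Agent.Omega.NSix.TvGroup

end

-- merged: Cfsg.Agent.Mrg.Omega.NSix.HTwo.LemTwo
section

section


/-!
# OMEGA N6, #18323 (helper480) (1): LEMMA 2 and its consequences  (helper537)

`XX ε i j = ⟨U_ik : k ≠ i, j⟩`, `V0 ε i j = V ∩ r_ij^⊥ = ⟨z_k : k ≠ i, j⟩`, `T₁ = S ∩ C_G(r_ij)`.

* `lem2` : `g ∈ C_G(r_ij)`, `XX` normalises `V0^g` implies `g` normalises `V0`;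
* `syl` : `T₁` is a Sylow 2-subgroup of `C_G(r_ij)`, with normaliser in `N_G(V)`;
* `not_le_o2` : `R` a minimal parabolic over `T₁` in `C_G(r_ij)`, not in `N_G(V)`: `XX` is not in `O₂(R)`.
-/

set_option autoImplicit false
set_option linter.unusedSectionVars false

namespace Cfsg.Agent.Omega.NSix.HTwo.LemTwo

open Subgroup Cfsg
open Cfsg.Agent.ZN (o2 zc zl)
open Cfsg.Agent.ZN.ChoiceSit (Syl)
open Cfsg.Agent.MinSimple.VModule (o2_le o2_isPGroup le_normalizer_o2 le_o2)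
open Cfsg.Agent.Omega.S5.Def Cfsg.Agent.Omega.S5.Syl
open Cfsg.Agent.Omega.NSix.Base Cfsg.Agent.Omega.NSix.Basic Cfsg.Agent.Omega.NSix.Engine
open Cfsg.Agent.Omega.NSix.CosetAct (V0 mem_V0)
open Cfsg.Agent.Omega.TTn.Di (cm cj)
open Cfsg.Agent.Omega.TTn Cfsg.Agent.Omega
open Cfsg.Agent.MinSimple.MinParabolic (IsMinPar)

universe u

/-! ### 2-groups of permutations -/

/-- A 2-group which moves `a`: there are two halves `ν`, `ν'` of the orbit of `a`, permuted by the group. -/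
theorem exists_half {n : ℕ} {Y : Type*} [Group Y] [Finite Y] (hY : IsPGroup 2 Y)
    (f : Y →* Equiv.Perm (Fin n)) {a : Fin n} {y0 : Y} (hy0 : f y0 a ≠ a) :
    ∃ ν ν' : Fin n → ZMod 2, ν a = 1 ∧ ν' a = 0 ∧
      (∀ b, (∀ y, f y a ≠ b) → ν b = 0 ∧ ν' b = 0) ∧
      (∀ y, ν ∘ (f y).symm = ν ∨ ν ∘ (f y).symm = ν') ∧ ∃ y, ν ∘ (f y).symm = ν' := by
  classical
  have hf : Fact (Nat.Prime 2) := ⟨Nat.prime_two⟩
  let H : Subgroup Y :=
    { carrier := {y | f y a = a}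
      one_mem' := by
        change f 1 a = a
        rw [map_one]; rfl
      mul_mem' := by
        intro x y hx hy
        change f (x * y) a = a
        rw [map_mul, Equiv.Perm.mul_apply]
        have h1 : f y a = a := hy
        have h2 : f x a = a := hx
        rw [h1, h2]
      inv_mem' := by
        intro x hx
        change f x⁻¹ a = a
        have h2 : f x a = a := hx
        rw [map_inv, Equiv.Perm.inv_eq_iff_eq, h2] }
  have hH : ∀ y, y ∈ H ↔ f y a = a := fun y => Iff.rfl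
  obtain ⟨s, hs⟩ := IsPGroup.iff_card.1 hY
  obtain ⟨t, ht⟩ := IsPGroup.iff_card.1 (hY.to_subgroup H)
  have hlt : t < s := by
    by_contra hcon
    push Not at hcon
    have h1 : Nat.card Y ≤ Nat.card H := by
      rw [hs, ht]; exact Nat.pow_le_pow_right (by norm_num) hcon
    have h2 : H = ⊤ := (Subgroup.card_eq_iff_eq_top H).1 (le_antisymm (Subgroup.card_le_card_group H) h1)
    exact hy0 ((hH y0).1 (h2 ▸ mem_top y0))
  obtain ⟨M, hM, hHM⟩ := Sylow.exists_subgroup_card_pow_prime_le 2 (m := s - 1)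
    (by rw [hs]; exact pow_dvd_pow _ (by omega)) H ht (by omega)
  have hM2 : M.index = 2 := by
    have h1 := M.card_mul_index
    rw [hM, hs] at h1
    have h2 : (2 : ℕ) ^ s = 2 ^ (s - 1) * 2 := by rw [← pow_succ]; congr 1; omega
    rw [h2] at h1
    exact Nat.eq_of_mul_eq_mul_left (by positivity) h1
  have hmul : ∀ x y, x * y ∈ M ↔ (x ∈ M ↔ y ∈ M) := fun x y => Subgroup.mul_mem_iff_of_index_two hM2
  let ν : Fin n → ZMod 2 := fun b => if ∃ y ∈ M, f y a = b then 1 else 0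
  let ν' : Fin n → ZMod 2 := fun b => if ∃ y, y ∉ M ∧ f y a = b then 1 else 0
  have hν : ∀ b, ν b = if ∃ y ∈ M, f y a = b then 1 else 0 := fun b => rfl
  have hν' : ∀ b, ν' b = if ∃ y, y ∉ M ∧ f y a = b then 1 else 0 := fun b => rfl
  have hin : ∀ y ∈ M, ν ∘ (f y).symm = ν := by
    intro y hy
    funext b
    rw [Function.comp_apply, hν, hν]
    refine if_congr ⟨?_, ?_⟩ rfl rfl
    · rintro ⟨z, hz, h1⟩
      refine ⟨y * z, mul_mem hy hz, ?_⟩
      rw [map_mul, Equiv.Perm.mul_apply, h1, Equiv.apply_symm_apply]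
    · rintro ⟨z, hz, h1⟩
      refine ⟨y⁻¹ * z, mul_mem (inv_mem hy) hz, ?_⟩
      rw [map_mul, Equiv.Perm.mul_apply, h1, map_inv]; rfl
  have hout : ∀ y, y ∉ M → ν ∘ (f y).symm = ν' := by
    intro y hy
    funext b
    rw [Function.comp_apply, hν, hν']
    refine if_congr ⟨?_, ?_⟩ rfl rfl
    · rintro ⟨z, hz, h1⟩
      refine ⟨y * z, fun h2 => hy (((hmul _ _).1 h2).2 hz), ?_⟩
      rw [map_mul, Equiv.Perm.mul_apply, h1, Equiv.apply_symm_apply]
    · rintro ⟨z, hz, h1⟩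
      refine ⟨y⁻¹ * z, (hmul _ _).2 ⟨fun h2 => absurd (by simpa using inv_mem h2) hy, fun h2 => absurd h2 hz⟩, ?_⟩
      rw [map_mul, Equiv.Perm.mul_apply, h1, map_inv]; rfl
  refine ⟨ν, ν', ?_, ?_, ?_, ?_, ?_⟩
  · rw [hν, if_pos]
    exact ⟨1, one_mem _, by rw [map_one]; rfl⟩
  · rw [hν', if_neg]
    rintro ⟨y, hy, h1⟩
    exact hy (hHM ((hH y).2 h1))
  · intro b hb
    rw [hν, hν', if_neg, if_neg]
    · exact ⟨rfl, rfl⟩
    · rintro ⟨y, -, h1⟩; exact hb y h1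
    · rintro ⟨y, -, h1⟩; exact hb y h1
  · intro y
    by_cases hy : y ∈ M
    · exact Or.inl (hin y hy)
    · exact Or.inr (hout y hy)
  · obtain ⟨y, hy⟩ : ∃ y, y ∉ M := by
      by_contra hcon
      push Not at hcon
      have h1 : M = ⊤ := (eq_top_iff' M).2 hcon
      rw [h1, index_top] at hM2
      exact absurd hM2 (by norm_num)
    exact ⟨y, hout y hy⟩

/-! ### `X₀` -/

variable {G : Type u} [Group G] {n : ℕ} {V P : Subgroup G} {ε : (Fin n → ZMod 2) → G}

/-- `X₀ = ⟨U_ik : k ≠ i, j⟩` -/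
def XX (ε : (Fin n → ZMod 2) → G) (i j : Fin n) : Subgroup G :=
  closure {x | ∃ k, k ≠ i ∧ k ≠ j ∧ x ∈ UU ε i k}

theorem mem_XX {i j k : Fin n} (hki : k ≠ i) (hkj : k ≠ j) {x : G} (hx : x ∈ UU ε i k) : x ∈ XX ε i j :=
  subset_closure ⟨k, hki, hkj, hx⟩

theorem KK_le_NN (i j : Fin n) : KK ε ≤ NN ε i j := by
  intro g hg
  rw [mem_NN]
  have h1 := rr_conj (mem_KK.1 hg) i j
  exact mul_inv_eq_iff_eq_mul.1 h1

/-- different pairs have different vectors (five labels) -/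
theorem rr_ne' {L : Subgroup G} (h : EvenSet n V L ε) (hn : 5 ≤ n)
    {i j k l : Fin n} (hij : i ≠ j) (hki : k ≠ i) (hli : l ≠ i) : rr ε i j ≠ rr ε k l := by
  intro h0
  have hrr : ∀ i j : Fin n, rr ε i j = ε (Pi.single i 1 + Pi.single j 1) := fun i j => (h.add _ _).symm
  rw [hrr, hrr, h.eq_iff] at h0
  obtain ⟨q, q1, q2, q3, q4⟩ := exists_fifth hn i j k l
  rcases h0 with h0 | h0
  · have h1 := congrFun h0 i
    rw [Pi.add_apply, Pi.add_apply, Pi.single_eq_same, Pi.single_eq_of_ne hij, Pi.single_eq_of_ne hki.symm,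
      Pi.single_eq_of_ne hli.symm, add_zero, add_zero] at h1
    exact one_ne_zero h1
  · have h1 := congrFun h0 q
    rw [Pi.add_apply, Pi.add_apply, Pi.add_apply, Pi.single_eq_of_ne q1, Pi.single_eq_of_ne q2,
      Pi.single_eq_of_ne q3, Pi.single_eq_of_ne q4, Pi.one_apply, add_zero, zero_add] at h1
    exact zero_ne_one h1

/-- an element of `C_G(r_ij)` permuting the labels preserves the pair -/
theorem pair_of {L : Subgroup G} (h : EvenSet n V L ε) (hn : 5 ≤ n) {i j : Fin n} (hij : i ≠ j) {g : G}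
    {σ : Equiv.Perm (Fin n)} (hσ : Acts ε g σ) (hg : g ∈ NN ε i j) {k : Fin n} (hki : k ≠ i) (hkj : k ≠ j) :
    σ k ≠ i ∧ σ k ≠ j := by
  have h1 := rr_conj hσ i j
  rw [mem_NN'.1 hg] at h1
  constructor
  · intro h2
    have e1 : σ i ≠ σ k := σ.injective.ne hki.symm
    have e2 : σ j ≠ σ k := σ.injective.ne hkj.symm
    rw [h2] at e1 e2
    exact rr_ne' h hn hij e1 e2 h1
  · intro h2
    rw [rr_symm h] at h1
    have e1 : σ i ≠ σ k := σ.injective.ne hki.symm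
    have e2 : σ j ≠ σ k := σ.injective.ne hkj.symm
    rw [h2] at e1 e2
    exact rr_ne' h hn hij.symm e1 e2 h1

section

variable (h : Engine.Hyp V P ε) {i j : Fin n}
include h

theorem XX_le_KK : XX ε i j ≤ KK ε := by
  unfold XX
  rw [closure_le]
  rintro x ⟨k, hki, -, hx⟩
  exact h.UK hki.symm hx

theorem KK_eq : KK ε = centralizer (V : Set G) := by
  ext g
  rw [mem_KK, h.ev.acts_one_iff]

theorem V0_le : V0 ε i j ≤ V := by
  unfold V0
  rw [closure_le]
  rintro x ⟨k, -, -, rfl⟩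
  exact zz_mem h.ev k

omit h in
theorem V0_le_UU : V0 ε i j ≤ UU ε i j := by
  unfold V0
  rw [closure_le]
  rintro x ⟨k, hki, hkj, rfl⟩
  exact zz_mem_UU hki hkj

theorem UU_two {a b : Fin n} (hab : a ≠ b) : IsPGroup 2 (UU ε a b) := by
  intro u
  refine ⟨1, Subtype.ext ?_⟩
  rw [pow_one, pow_two]
  exact h.Usq hab u.2

theorem UU_le_o2 [Finite G] {a b : Fin n} (hab : a ≠ b) : UU ε a b ≤ o2 (KK ε) := by
  refine le_o2 (h.UK hab) (UU_two h hab) fun g hg => DiCoreAbs.mem_norm_of fun x hx => ?_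
  have h1 := UU_conj (mem_KK.1 hg) hx
  rwa [Equiv.Perm.one_apply, Equiv.Perm.one_apply] at h1

theorem XX_le_o2 [Finite G] : XX ε i j ≤ o2 (KK ε) := by
  unfold XX
  rw [closure_le]
  rintro x ⟨k, hki, -, hx⟩
  exact UU_le_o2 h hki.symm hx

theorem XX_two [Finite G] : IsPGroup 2 (XX ε i j) := (o2_isPGroup (KK ε)).to_le (XX_le_o2 h)

/-- an element permuting the labels and normalising the pair normalises `V0` -/
theorem norm_V0 [Finite G] {g : G} {σ : Equiv.Perm (Fin n)} (hg : Acts ε g σ)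
    (hσ : ∀ k, k ≠ i → k ≠ j → σ k ≠ i ∧ σ k ≠ j) : g ∈ normalizer (V0 ε i j : Set G) := by
  refine DiCoreAbs.mem_norm_of fun x hx => ?_
  unfold V0 at hx
  induction hx using closure_induction with
  | mem x hx =>
    obtain ⟨k, hki, hkj, rfl⟩ := hx
    rw [zz_conj hg]
    exact subset_closure ⟨σ k, (hσ k hki hkj).1, (hσ k hki hkj).2, rfl⟩
  | one => rw [mul_one, mul_inv_cancel]; exact one_mem _
  | mul x y _ _ hx hy =>
    have : g * (x * y) * g⁻¹ = (g * x * g⁻¹) * (g * y * g⁻¹) := by group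
    rw [this]; exact mul_mem hx hy
  | inv x _ hx =>
    have : g * x⁻¹ * g⁻¹ = (g * x * g⁻¹)⁻¹ := by group
    rw [this]; exact inv_mem hx

/-- **LEMMA 2** of #18323 -/
theorem lem2 [Finite G] (hL : EvenSet n V (normalizer (V : Set G)) ε) (hij : i ≠ j)
    (h1 : ∀ u ∈ UU ε i j, ∀ a ∈ UU ε i j, (∀ k, k ≠ i → k ≠ j → ∀ y ∈ UU ε i k, cm u y = 1 ∨ cm u y = a) →
      ∃ x, u = ε x)
    (h2 : NN ε i j ⊓ normalizer (V0 ε i j : Set G) ≤ normalizer (V : Set G))
    {g : G} (hg : g ∈ NN ε i j) (hX : ∀ x ∈ XX ε i j, g⁻¹ * x * g ∈ normalizer (V0 ε i j : Set G)) :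
    g ∈ normalizer (V0 ε i j : Set G) := by
  set Y : Subgroup G := (XX ε i j).map (MulAut.conj g⁻¹).toMonoidHom with hY
  have hmem : ∀ x ∈ XX ε i j, g⁻¹ * x * g ∈ Y := by
    intro x hx
    refine ⟨x, hx, ?_⟩
    change g⁻¹ * x * g⁻¹⁻¹ = _
    rw [inv_inv]
  have hYN : Y ≤ NN ε i j := by
    rintro _ ⟨x, hx, rfl⟩
    exact mul_mem (mul_mem (inv_mem hg) (KK_le_NN i j (XX_le_KK h hx))) (inv_mem (inv_mem hg))
  have hYL : Y ≤ normalizer (V : Set G) := by
    rintro _ ⟨x, hx, rfl⟩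
    refine h2 ⟨hYN ⟨x, hx, rfl⟩, ?_⟩
    change g⁻¹ * x * g⁻¹⁻¹ ∈ _
    rw [inv_inv]
    exact hX x hx
  have hYp : IsPGroup 2 Y := (XX_two h).map _
  let f : Y →* Equiv.Perm (Fin n) := (hL.hom h.n3).comp (Subgroup.inclusion hYL)
  have hf : ∀ y : Y, Acts ε (y : G) (f y) := fun y => hL.acts_hom h.n3 (Subgroup.inclusion hYL y)
  have hfij : ∀ (y : Y) {k : Fin n}, k ≠ i → k ≠ j → f y k ≠ i ∧ f y k ≠ j := fun y k hki hkj =>
    pair_of h.ev h.n5 hij (hf y) (hYN y.2) hki hkj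
  -- the action is trivial
  have htriv : ∀ a, a ≠ i → a ≠ j → ∀ y : Y, f y a = a := by
    intro a hai haj y0
    by_contra hy0
    obtain ⟨ν, ν', e1, e2, e3, e4, y1, e5⟩ := exists_half hYp f hy0
    obtain ⟨i1, i2⟩ := e3 i fun y => (hfij y hai haj).1
    obtain ⟨j1, j2⟩ := e3 j fun y => (hfij y hai haj).2
    have hc : (ν + ν') i = (ν + ν') j := by
      rw [Pi.add_apply, Pi.add_apply, i1, i2, j1, j2]
    obtain ⟨x, hx⟩ := h1 (g * ε ν * g⁻¹) (UU_normal hg ((h.eU hij ν).2 (by rw [i1, j1])))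
      (g * ε (ν + ν') * g⁻¹) (UU_normal hg ((h.eU hij _).2 hc)) (by
      intro k hki hkj y hy
      have hy' := hmem y (mem_XX hki hkj hy)
      have h3 := hf ⟨_, hy'⟩ ν
      have h4 : cm (g * ε ν * g⁻¹) y = g * (ε ν * (g⁻¹ * y * g * ε ν * (g⁻¹ * y * g)⁻¹)⁻¹) * g⁻¹ := by
        unfold cm; group
      rw [h4]
      change g⁻¹ * y * g * ε ν * (g⁻¹ * y * g)⁻¹ = _ at h3
      rw [h3]
      rcases e4 ⟨_, hy'⟩ with h5 | h5
      · left
        rw [h5]; group
      · right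
        rw [h5, h.ev.inv, ← h.ev.add])
    -- `Y` centralises `ε ν`
    have h3 : ∀ y : Y, (y : G) * ε ν * (y : G)⁻¹ = ε ν := by
      rintro ⟨_, x', hx', rfl⟩
      change g⁻¹ * x' * g⁻¹⁻¹ * ε ν * (g⁻¹ * x' * g⁻¹⁻¹)⁻¹ = ε ν
      have h4 := mem_KK'.1 (XX_le_KK h hx') x
      rw [← hx] at h4
      calc g⁻¹ * x' * g⁻¹⁻¹ * ε ν * (g⁻¹ * x' * g⁻¹⁻¹)⁻¹
          = g⁻¹ * (x' * (g * ε ν * g⁻¹)) * x'⁻¹ * g := by group
        _ = ε ν := by rw [h4]; group
    have h4 := hf y1 ν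
    rw [h3, e5, h.ev.eq_iff] at h4
    rcases h4 with h4 | h4
    · have h5 := congrFun h4 a
      rw [e1, e2] at h5
      exact one_ne_zero h5
    · have h5 := congrFun h4 i
      rw [Pi.add_apply, i1, i2, Pi.one_apply, zero_add] at h5
      exact zero_ne_one h5
  -- `Y` centralises `V0`
  have hcen : ∀ y ∈ Y, ∀ v ∈ V0 ε i j, y * v = v * y := by
    intro y hy v hv
    unfold V0 at hv
    induction hv using closure_induction with
    | mem x hx =>
      obtain ⟨k, hki, hkj, rfl⟩ := hx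
      have h3 := zz_conj (hf ⟨y, hy⟩) k
      rw [htriv k hki hkj] at h3
      exact mul_inv_eq_iff_eq_mul.1 h3
    | one => rw [mul_one, one_mul]
    | mul x x' _ _ hx hx' => rw [← mul_assoc, hx, mul_assoc, hx', mul_assoc]
    | inv x _ hx => rw [mul_inv_eq_iff_eq_mul, mul_assoc, hx, inv_mul_cancel_left]
  refine DiCoreAbs.mem_norm_of fun v hv => ?_
  obtain ⟨w, F⟩ := h.exists_fr
  obtain ⟨x, hxi, hxj, hx⟩ := F.four_all h.thC hij (UU_normal hg (V0_le_UU hv)) (by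
    intro k hki hkj y hy
    have h3 := hcen _ (hmem y (mem_XX hki hkj hy)) v hv
    calc g * v * g⁻¹ * y = g * (v * (g⁻¹ * y * g)) * g⁻¹ := by group
      _ = g * (g⁻¹ * y * g * v) * g⁻¹ := by rw [h3]
      _ = y * (g * v * g⁻¹) := by group)
  rw [hx]
  exact mem_V0 h.ev (by rw [hxi, hxj])

end

/-! ### The order of `C_S(r_ab)` -/

section card

variable {m : ℕ} {S : Sylow 2 G} {ε : (Fin (2 ^ m + 1) → ZMod 2) → G}

/-- `|C_S(z_a)| 2^m ≤ |S|` for `a ≠ 0`. -/
theorem card_fix [Finite G] (hm : 2 ≤ m) (ev : EvenSet (2 ^ m + 1) V P ε) (hSP : (S : Subgroup G) ≤ P)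
    (h0 : Fix0 ε (S : Subgroup G)) {a : Fin (2 ^ m + 1)} (ha : a ≠ 0) :
    Nat.card ↥((S : Subgroup G) ⊓ centralizer ({zz ε a} : Set G)) * 2 ^ m ≤
      Nat.card (S : Subgroup G) := by
  classical
  have hS2 : ¬ 2 ∣ (S : Subgroup G).relIndex P := MinSimple.Basic.not_dvd_relIndex S hSP
  have htr := fun (c : {c : Fin (2 ^ m + 1) // c ≠ 0}) =>
    S5.Syl.trans (by omega) ev hSP hS2 h0 ha c.2
  choose s hs σ hσ hσa using htr
  have h1 : Nat.card (↥((S : Subgroup G) ⊓ centralizer ({zz ε a} : Set G)) ×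
      {c : Fin (2 ^ m + 1) // c ≠ 0}) ≤ Nat.card (S : Subgroup G) := by
    refine Nat.card_le_card_of_injective (fun p => (⟨s p.2 * (p.1 : G),
      mul_mem (hs p.2) p.1.2.1⟩ : (S : Subgroup G))) ?_
    rintro ⟨y, c⟩ ⟨y', c'⟩ hyy
    have h2 : s c * (y : G) = s c' * (y' : G) := congrArg Subtype.val hyy
    have h3 : ∀ (c : {c : Fin (2 ^ m + 1) // c ≠ 0})
        (y : ↥((S : Subgroup G) ⊓ centralizer ({zz ε a} : Set G))),
        (s c * (y : G)) * zz ε a * (s c * (y : G))⁻¹ = zz ε c := by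
      intro c y
      have h4 := mem_centralizer_singleton_iff.1 y.2.2
      calc (s c * (y : G)) * zz ε a * (s c * (y : G))⁻¹
          = s c * ((y : G) * zz ε a) * (y : G)⁻¹ * (s c)⁻¹ := by group
        _ = s c * zz ε a * (s c)⁻¹ := by rw [h4]; group
        _ = zz ε c := by rw [zz_conj (hσ c), hσa]
    have h5 : zz ε (c : Fin (2 ^ m + 1)) = zz ε c' := by rw [← h3 c y, ← h3 c' y', h2]
    have h6 : c = c' := Subtype.ext (ev.single_inj (three_le (by omega)) h5)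
    subst h6
    exact Prod.ext (Subtype.ext (mul_left_cancel h2)) rfl
  rw [Nat.card_prod] at h1
  have h3 : Nat.card {x : Fin (2 ^ m + 1) // x ≠ 0} = 2 ^ m := by
    rw [Nat.card_eq_fintype_card, Fintype.card_subtype_compl]
    simp
  rwa [h3] at h1

theorem card_le_two' [Finite G] {A C : Subgroup G} {c : G} (h : ∀ y ∈ A, y ∉ C → c⁻¹ * y ∈ C) :
    Nat.card A ≤ 2 * Nat.card C := by
  classical
  have h1 : Nat.card A ≤ Nat.card (C × Bool) := by
    refine Nat.card_le_card_of_injective (fun y : A => if hy : (y : G) ∈ C then ((⟨y, hy⟩ : C), false)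
      else ((⟨c⁻¹ * y, h y y.2 hy⟩ : C), true)) ?_
    intro y z hyz
    by_cases hy : (y : G) ∈ C
    · by_cases hz : (z : G) ∈ C
      · simp only [dif_pos hy, dif_pos hz, Prod.mk.injEq, Subtype.mk.injEq, and_true] at hyz
        exact Subtype.ext hyz
      · simp [dif_pos hy, dif_neg hz] at hyz
    · by_cases hz : (z : G) ∈ C
      · simp [dif_neg hy, dif_pos hz] at hyz
      · simp only [dif_neg hy, dif_neg hz, Prod.mk.injEq, Subtype.mk.injEq, and_true] at hyz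
        exact Subtype.ext (mul_left_cancel hyz)
  rwa [Nat.card_prod, Nat.card_eq_fintype_card (α := Bool), Fintype.card_bool, mul_comm] at h1

/-- `|C_S(r_ab)| 2^(m-1) ≤ |S|`. -/
theorem card_rr [Finite G] (hm : 2 ≤ m) (ev : EvenSet (2 ^ m + 1) V P ε) (hSP : (S : Subgroup G) ≤ P)
    (h0 : Fix0 ε (S : Subgroup G)) {a b : Fin (2 ^ m + 1)} (hab : a ≠ b) :
    Nat.card ↥((S : Subgroup G) ⊓ centralizer ({rr ε a b} : Set G)) * 2 ^ (m - 1) ≤
      Nat.card (S : Subgroup G) := by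
  classical
  wlog ha : a ≠ 0 generalizing a b
  · rw [rr_symm ev]
    exact this hab.symm fun hb => ha fun h0 => hab (h0.trans hb.symm)
  have h1 := card_fix hm ev hSP h0 ha
  have hm2 : (2 : ℕ) ^ m = 2 * 2 ^ (m - 1) := by
    rw [← pow_succ']; congr 1; omega
  set T := (S : Subgroup G) ⊓ centralizer ({rr ε a b} : Set G) with hT
  set U := (S : Subgroup G) ⊓ centralizer ({zz ε a} : Set G) with hU
  have hfix : ∀ {g : G} {σ : Equiv.Perm (Fin (2 ^ m + 1))}, g ∈ (S : Subgroup G) → Acts ε g σ →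
      σ a = a → g ∈ U := by
    intro g σ hg hσ h2
    refine ⟨hg, mem_centralizer_singleton_iff.2 ?_⟩
    have h3 := zz_conj hσ a
    rw [h2] at h3
    exact mul_inv_eq_iff_eq_mul.1 h3
  have hpair : ∀ {g : G} {σ : Equiv.Perm (Fin (2 ^ m + 1))}, Acts ε g σ → g ∈ T → σ a = a ∨ σ a = b := by
    intro g σ hσ hg
    by_contra hcon
    push Not at hcon
    have h3 := rr_conj hσ a b
    have h4 := mem_centralizer_singleton_iff.1 hg.2
    rw [h4, mul_inv_cancel_right] at h3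
    exact rr_ne' ev (five_le hm) (σ.injective.ne hab) (Ne.symm hcon.1) (Ne.symm hcon.2) h3.symm
  have h2 : Nat.card T ≤ 2 * Nat.card U := by
    by_cases hTU : T ≤ U
    · have := Subgroup.card_le_of_le hTU
      omega
    · obtain ⟨c, hc, hcU⟩ := Set.not_subset.1 hTU
      replace hc : c ∈ T := hc
      obtain ⟨τ, hτ⟩ := ev.perm c (hSP hc.1)
      have hτa : τ a = b := by
        rcases hpair hτ hc with h3 | h3
        · exact absurd (hfix hc.1 hτ h3) hcU
        · exact h3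
      refine card_le_two' (c := c) fun y hy hyU => ?_
      obtain ⟨σ, hσ⟩ := ev.perm y (hSP hy.1)
      have hσa : σ a = b := by
        rcases hpair hσ hy with h3 | h3
        · exact absurd (hfix hy.1 hσ h3) hyU
        · exact h3
      refine hfix (mul_mem (inv_mem hc.1) hy.1) (hτ.inv.mul hσ) ?_
      rw [Equiv.Perm.mul_apply, hσa, ← hτa]
      exact τ.symm_apply_apply a
  rw [hm2] at h1
  have h4 : Nat.card T * 2 ^ (m - 1) ≤ 2 * Nat.card U * 2 ^ (m - 1) := Nat.mul_le_mul_right _ h2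
  calc Nat.card T * 2 ^ (m - 1) ≤ 2 * Nat.card U * 2 ^ (m - 1) := h4
    _ = Nat.card U * (2 * 2 ^ (m - 1)) := by ring
    _ ≤ _ := h1

/-- The input: `S` fixes the label `0` and induces `(i j)`; LEMMA 1; `N_N(V0) ≤ N_G(V)` (#16633 (1)). -/
structure In (S : Sylow 2 G) (V P : Subgroup G) (ε : (Fin (2 ^ m + 1) → ZMod 2) → G)
    (i j : Fin (2 ^ m + 1)) : Prop where
  hyp : Engine.Hyp V P ε
  hm : 2 ≤ m
  SP : (S : Subgroup G) ≤ P
  fix0 : Fix0 ε (S : Subgroup G)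
  ij : i ≠ j
  swap : ∃ b ∈ (S : Subgroup G), Acts ε b (Equiv.swap i j)
  one : ∀ u ∈ UU ε i j, ∀ a ∈ UU ε i j,
    (∀ k, k ≠ i → k ≠ j → ∀ y ∈ UU ε i k, cm u y = 1 ∨ cm u y = a) → ∃ x, u = ε x
  cut : NN ε i j ⊓ normalizer (V0 ε i j : Set G) ≤ normalizer (V : Set G)

namespace In

variable {i j : Fin (2 ^ m + 1)} (h : In S V P ε i j)
include h

theorem three : 3 ≤ 2 ^ m + 1 := three_le (by have := h.hm; omega)

theorem evL [Finite G] : EvenSet (2 ^ m + 1) V (normalizer (V : Set G)) ε :=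
  Norm.evenSet' h.hm S h.hyp.ev h.SP h.fix0

theorem SL : (S : Subgroup G) ≤ normalizer (V : Set G) := h.SP.trans h.hyp.ev.le_normalizer

/-- `T₁` -/
theorem T_two : IsPGroup 2 ((S : Subgroup G) ⊓ NN ε i j : Subgroup G) := S.isPGroup'.to_le inf_le_left

theorem o2_KK_le [Finite G] : o2 (KK ε) ≤ (S : Subgroup G) := by
  refine MinPar.le_of_le_normalizer S (o2_isPGroup _) fun s hs => DiCoreAbs.mem_norm_of fun x hx => ?_
  obtain ⟨σ, hσ⟩ := h.hyp.ev.perm s (h.SP hs)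
  refine Zero.o2_conj (fun x hx => ?_) (fun x hx => ?_) hx
  · exact Fr.KK_conj hσ hx
  · have h1 := Fr.KK_conj hσ.inv hx
    unfold cj at h1
    rwa [inv_inv] at h1

theorem XX_le_S [Finite G] : XX ε i j ≤ (S : Subgroup G) := (XX_le_o2 h.hyp).trans h.o2_KK_le

theorem XX_le_T [Finite G] : XX ε i j ≤ (S : Subgroup G) ⊓ NN ε i j :=
  le_inf h.XX_le_S ((XX_le_KK h.hyp).trans (KK_le_NN i j))

/-- the elements of `L ∩ N` normalise `V0` -/
theorem L_norm [Finite G] : normalizer (V : Set G) ⊓ NN ε i j ≤ normalizer (V0 ε i j : Set G) := by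
  rintro g ⟨hg, hgN⟩
  obtain ⟨σ, hσ⟩ := h.evL.perm g hg
  exact norm_V0 h.hyp hσ fun k hki hkj => pair_of h.hyp.ev h.hyp.n5 h.ij hσ hgN hki hkj

theorem T_norm [Finite G] : (S : Subgroup G) ⊓ NN ε i j ≤ normalizer (V0 ε i j : Set G) :=
  (inf_le_inf_right _ h.SL).trans h.L_norm

/-- a subgroup of `N` normalised by `g ∈ N`, between `XX` and `T₁`: `g ∈ N_G(V)` -/
theorem mem_of_norm [Finite G] {A : Subgroup G} (hXA : XX ε i j ≤ A) (hA : A ≤ (S : Subgroup G) ⊓ NN ε i j)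
    {g : G} (hg : g ∈ NN ε i j) (hgA : g ∈ normalizer (A : Set G)) : g ∈ normalizer (V : Set G) := by
  refine h.cut ⟨hg, lem2 h.hyp h.evL h.ij h.one h.cut hg fun x hx => h.T_norm (hA ?_)⟩
  have h1 := (mem_normalizer_iff.1 (inv_mem hgA) x).1 (hXA hx)
  rwa [inv_inv] at h1

/-- `N_N(T₁) ≤ N_G(V)` -/
theorem norm_T_le [Finite G] :
    NN ε i j ⊓ normalizer (((S : Subgroup G) ⊓ NN ε i j : Subgroup G) : Set G) ≤ normalizer (V : Set G) :=
  fun _ hg => h.mem_of_norm h.XX_le_T le_rfl hg.1 hg.2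

/-- the setting of `CosetAct` with `W = 1` -/
theorem cosetHyp' [Finite G] {k l : Fin (2 ^ m + 1)} (hkl : k ≠ l)
    (hb : ∃ b ∈ (S : Subgroup G), Acts ε b (Equiv.swap k l)) :
    CosetAct.Hyp V P (S : Subgroup G) ⊥ ε k l where
  even := h.hyp.ev
  VP := (h.hyp.V_le h.ij).trans ((h.hyp.W2_leQ h.ij).trans (h.hyp.le _ _ h.ij))
  two_le := h.hm
  le := h.SP
  isP := S.isPGroup'
  max T hT := by
    obtain ⟨T', hT'⟩ := hT.exists_le_sylow
    calc Nat.card T ≤ Nat.card (T' : Subgroup G) := Subgroup.card_le_of_le hT'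
      _ = Nat.card (S : Subgroup G) := Nat.card_congr (Sylow.equiv T' S).toEquiv
  fix0 := h.fix0
  ne := hkl
  swap := hb
  isPW := IsPGroup.of_bot
  leW := bot_le
  norm g _ := DiCoreAbs.mem_norm_of fun x hx => by
    rw [mem_bot.1 hx, mul_one, mul_inv_cancel]
    exact one_mem _

theorem cosetHyp [Finite G] : CosetAct.Hyp V P (S : Subgroup G) ⊥ ε i j := h.cosetHyp' h.ij h.swap

/-- a 2-subgroup of `N_G(V) ∩ N` over `T₁` is `T₁` -/
theorem eq_T [Finite G] {R : Subgroup G} (hR : IsPGroup 2 R) (hRL : R ≤ normalizer (V : Set G))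
    (hRN : R ≤ NN ε i j) (hTR : (S : Subgroup G) ⊓ NN ε i j ≤ R) : R = (S : Subgroup G) ⊓ NN ε i j := by
  have hf : Fact (Nat.Prime 2) := ⟨Nat.prime_two⟩
  have hSy : Syl (S : Subgroup G) (normalizer (V : Set G)) :=
    ⟨h.SL, S.isPGroup', fun _ _ hT hST => S.is_maximal' hT hST⟩
  obtain ⟨R', hR', hRR'⟩ := ZN.ChoiceSit.exists_syl hR hRL
  obtain ⟨k, hk, hkR⟩ := ZN.ChoiceSit.syl_conj hR' hSy
  obtain ⟨σ, hσ⟩ := h.evL.perm k hk
  have h1 : R.map (MulAut.conj k).toMonoidHom ≤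
      (S : Subgroup G) ⊓ centralizer ({rr ε (σ i) (σ j)} : Set G) := by
    refine le_inf ?_ ?_
    · rw [← hkR]
      exact Subgroup.map_mono hRR'
    · rintro _ ⟨x, hx, rfl⟩
      rw [mem_centralizer_singleton_iff, ← rr_conj hσ]
      have h2 := mem_NN.1 (hRN hx)
      change k * x * k⁻¹ * (k * rr ε i j * k⁻¹) = k * rr ε i j * k⁻¹ * (k * x * k⁻¹)
      calc k * x * k⁻¹ * (k * rr ε i j * k⁻¹) = k * (x * rr ε i j) * k⁻¹ := by group
        _ = k * (rr ε i j * x) * k⁻¹ := by rw [h2]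
        _ = _ := by group
  have h4 := card_rr h.hm h.hyp.ev h.SP h.fix0 (σ.injective.ne h.ij)
  have h5 := Subgroup.card_le_of_le h1
  rw [Subgroup.card_map_of_injective (MulAut.conj k).injective] at h5
  have h6 := h.cosetHyp.relIndex_S_le
  have h7 : Nat.card ↥((S : Subgroup G) ⊓ centralizer ({rr ε i j} : Set G)) *
      ((S : Subgroup G) ⊓ centralizer ({rr ε i j} : Set G)).relIndex (S : Subgroup G) =
      Nat.card (S : Subgroup G) := CosetAct.Hyp.card_mul_relIndex' inf_le_left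
  refine (Subgroup.eq_of_le_of_card_ge hTR ?_).symm
  change Nat.card R ≤ Nat.card ↥((S : Subgroup G) ⊓ centralizer ({rr ε i j} : Set G))
  set T := (S : Subgroup G) ⊓ centralizer ({rr ε i j} : Set G) with hT
  have h8 : Nat.card R * 2 ^ (m - 1) ≤ Nat.card T * 2 ^ (m - 1) := by
    calc Nat.card R * 2 ^ (m - 1)
        ≤ Nat.card ↥((S : Subgroup G) ⊓ centralizer ({rr ε (σ i) (σ j)} : Set G)) * 2 ^ (m - 1) :=
          Nat.mul_le_mul_right _ h5
      _ ≤ Nat.card (S : Subgroup G) := h4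
      _ = Nat.card T * T.relIndex (S : Subgroup G) := h7.symm
      _ ≤ Nat.card T * 2 ^ (m - 1) := Nat.mul_le_mul_left _ h6
  exact Nat.le_of_mul_le_mul_right h8 (by positivity)

/-- **`T₁` is a Sylow 2-subgroup of `C_G(r_ij)`** -/
theorem syl [Finite G] : Syl ((S : Subgroup G) ⊓ NN ε i j) (NN ε i j) := by
  have hf : Fact (Nat.Prime 2) := ⟨Nat.prime_two⟩
  refine ⟨inf_le_right, h.T_two, fun R hRN hR hTR => ?_⟩
  set T := (S : Subgroup G) ⊓ NN ε i j with hT
  by_contra hne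
  -- normalisers grow
  have h1 : R ⊓ normalizer (T : Set G) ≤ T := by
    have h2 : R ⊓ normalizer (T : Set G) = T := by
      refine h.eq_T (hR.to_le inf_le_left) (fun g hg => h.norm_T_le ⟨hRN hg.1, hg.2⟩)
        (inf_le_left.trans hRN) (le_inf hTR le_normalizer)
    exact h2.le
  exact hne (ZN.ChoiceNse.eq_of_normalizer_inf_le hR hTR (by rwa [inf_comm] at h1)).symm

theorem not_dvd [Finite G] : ¬ 2 ∣ ((S : Subgroup G) ⊓ NN ε i j).relIndex (NN ε i j) :=
  ZN.ChoiceSit.syl_not_dvd h.syl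

theorem o2_le_T' [Finite G] {R : Subgroup G} (hTR : (S : Subgroup G) ⊓ NN ε i j ≤ R) (hR : R ≤ NN ε i j) :
    o2 R ≤ (S : Subgroup G) ⊓ NN ε i j := by
  refine MinSimple.VModule.o2_le_of_sylow h.T_two fun h1 => h.not_dvd ?_
  rw [← relIndex_mul_relIndex _ R (NN ε i j) hTR hR]
  exact h1.mul_right _

/-- **`X₀ ≰ O₂(R)`** for `T₁ ≤ R ≤ C_G(r_ij)` not in `N_G(V)` -/
theorem not_le_o2 [Finite G] {R : Subgroup G} (hTR : (S : Subgroup G) ⊓ NN ε i j ≤ R) (hR : R ≤ NN ε i j)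
    (hRL : ¬ R ≤ normalizer (V : Set G)) : ¬ XX ε i j ≤ o2 R := fun hX =>
  hRL fun _ hg => h.mem_of_norm hX (h.o2_le_T' hTR hR) (hR hg) (le_normalizer_o2 R hg)

/-! ### `W_p`, `p` in the matching -/

theorem o2_le_T [Finite G] : o2 (NN ε i j) ≤ (S : Subgroup G) ⊓ NN ε i j := h.o2_le_T' inf_le_right le_rfl

theorem W2_le_T [Finite G] : W2 ε i j ≤ (S : Subgroup G) ⊓ NN ε i j := (h.hyp.W2_leQ h.ij).trans h.o2_le_T

/-- the pairs induced by `S` are the `S`-conjugates of `{i, j}` -/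
theorem exists_conj [Finite G] {k l : Fin (2 ^ m + 1)} (hkl : k ≠ l)
    (hb : ∃ b ∈ (S : Subgroup G), Acts ε b (Equiv.swap k l)) :
    ∃ s ∈ (S : Subgroup G), ∃ σ : Equiv.Perm (Fin (2 ^ m + 1)), Acts ε s σ ∧ σ i = k ∧ σ j = l := by
  have hc := h.cosetHyp' hkl hb
  obtain ⟨s, hs, σ, hσ, h1⟩ := S5.Syl.trans (by have := h.hm; omega) h.hyp.ev h.SP
    (MinSimple.Basic.not_dvd_relIndex S h.SP) h.fix0 h.cosetHyp.i_ne_zero hc.i_ne_zero
  refine ⟨s, hs, σ, hσ, h1, ?_⟩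
  by_contra hne
  obtain ⟨b, hbS, hbA⟩ := hb
  have hc' := h.cosetHyp' hkl.symm ⟨b, hbS, by rw [Equiv.swap_comm]; exact hbA⟩
  obtain ⟨a, haS, haA⟩ := h.swap
  have h2 : Acts ε (s * a * s⁻¹) (Equiv.swap k (σ j)) := by
    have h3 := hσ.conj haA
    rwa [← Equiv.swap_apply_apply, h1] at h3
  have hjk : σ j ≠ k := by rw [← h1]; exact σ.injective.ne h.ij.symm
  have h3 := hc'.fix_j (mul_mem (mul_mem hs haS) (inv_mem hs)) h2
    (Equiv.swap_apply_of_ne_of_ne hkl.symm (Ne.symm hne))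
  rw [Equiv.swap_apply_left] at h3
  exact hjk h3

theorem W2_le_S [Finite G] {k l : Fin (2 ^ m + 1)} (hkl : k ≠ l)
    (hb : ∃ b ∈ (S : Subgroup G), Acts ε b (Equiv.swap k l)) : W2 ε k l ≤ (S : Subgroup G) := by
  obtain ⟨s, hs, σ, hσ, h1, h2⟩ := h.exists_conj hkl hb
  intro x hx
  have h3 := W2_conj hσ.inv hx
  have e : ∀ m, σ⁻¹ (σ m) = m := fun m => σ.symm_apply_apply m
  rw [← h1, ← h2] at h3
  rw [e, e, inv_inv] at h3
  have h4 := mul_mem (mul_mem hs (h.W2_le_T h3).1) (inv_mem hs)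
  have h5 : s * (s⁻¹ * x * s) * s⁻¹ = x := by group
  rwa [h5] at h4

/-- `W_p ≤ T₁` for `p` in the matching -/
theorem W2_le_T' [Finite G] {k l : Fin (2 ^ m + 1)} (hkl : k ≠ l) (hki : k ≠ i) (hkj : k ≠ j) (hli : l ≠ i)
    (hlj : l ≠ j) (hb : ∃ b ∈ (S : Subgroup G), Acts ε b (Equiv.swap k l)) :
    W2 ε k l ≤ (S : Subgroup G) ⊓ NN ε i j := by
  refine le_inf (h.W2_le_S hkl hb) fun x hx => ?_
  have hx' := h.hyp.W2_leQ hkl hx
  rw [mem_NN]
  unfold rr
  rw [← mul_assoc, h.hyp.pair k l i hkl hki.symm hli.symm x hx', mul_assoc,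
    h.hyp.pair k l j hkl hkj.symm hlj.symm x hx', ← mul_assoc]

end In

end card

end Cfsg.Agent.Omega.NSix.HTwo.LemTwo

end

section


/-!
# OMEGA N6, (H2) by #18920 (helper605): (6), `N = C_G(r_ij)` moves `λ`  (helper821)

`Q = O₂(N)` acts on `V` as `⟨(i j)⟩`: `λ : Q → F₂`, with kernel `Q ∩ C_G(V)`; `FixL ε i j` : `N` fixes `λ`.
If `N` fixes `λ`, then `⟨V^N⟩` is abelian, `X₀ = ⟨U_ik⟩` centralises it modulo `U = U_ij`, `N` fixes the coset `z_i U`,
by averaging it normalises `⟨r_ij, z_i⟩`, and `U ≤ ⟨V^{C_G(z_i)}⟩` commutes with `U_ik`: `U ≤ V`.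

* `FixL.UU_le` : over `Engine.Hyp`, from: `N` fixes the coset `z_i U`, a subgroup of odd index which fixes `z_i`
  modulo `r_ij`, an abelian normal subgroup of `C_G(z_i)` containing `V`;
* `XX_le_CU` : `X₀` centralises `⟨V^N⟩` modulo `U`.
-/

set_option autoImplicit false
set_option linter.unusedSectionVars false

namespace Cfsg.Agent.Omega.NSix.HT.Fix

open Subgroup Cfsg
open Cfsg.Agent.ZN (o2 zc zl)
open Cfsg.Agent.MinSimple.VModule (o2_le o2_isPGroup le_normalizer_o2 le_o2)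
open Cfsg.Agent.Omega.S5.Def Cfsg.Agent.Omega.S5.Syl
open Cfsg.Agent.Omega.NSix.Base Cfsg.Agent.Omega.NSix.Basic Cfsg.Agent.Omega.NSix.Engine
open Cfsg.Agent.Omega.NSix.Zero (zpow_cases)
open Cfsg.Agent.Omega.NSix.HTwo.LemTwo (XX mem_XX In KK_le_NN)
open Cfsg.Agent.Omega.TTn.Di (cm cj cm_one_iff)
open Cfsg.Agent.Omega.TTn
open Cfsg.Agent.MinSimple.MinParabolic (IsMinPar)

universe u

variable {G : Type u} [Group G] {n : ℕ} {V P : Subgroup G} {ε : (Fin n → ZMod 2) → G} {i j : Fin n}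

/-- `C_G(r_ij)` fixes `λ` -/
def FixL (ε : (Fin n → ZMod 2) → G) (i j : Fin n) : Prop :=
  ∀ g ∈ NN ε i j, ∀ q ∈ o2 (NN ε i j), q ∈ KK ε → g * q * g⁻¹ ∈ KK ε

/-- `⟨V^N⟩` -/
def WW (V : Subgroup G) (ε : (Fin n → ZMod 2) → G) (i j : Fin n) : Subgroup G :=
  closure {x | ∃ g ∈ NN ε i j, ∃ v ∈ V, x = g * v * g⁻¹}

theorem WW_conj {g x : G} (hg : g ∈ NN ε i j) (hx : x ∈ WW V ε i j) : g * x * g⁻¹ ∈ WW V ε i j := by
  unfold WW at hx
  induction hx using closure_induction with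
  | mem x hx =>
    obtain ⟨k, hk, v, hv, rfl⟩ := hx
    exact subset_closure ⟨g * k, mul_mem hg hk, v, hv, by group⟩
  | one => rw [mul_one, mul_inv_cancel]; exact one_mem _
  | mul x y _ _ hx hy =>
    have : g * (x * y) * g⁻¹ = (g * x * g⁻¹) * (g * y * g⁻¹) := by group
    rw [this]; exact mul_mem hx hy
  | inv x _ hx =>
    have : g * x⁻¹ * g⁻¹ = (g * x * g⁻¹)⁻¹ := by group
    rw [this]; exact inv_mem hx

theorem WW_conj' {g x : G} (hg : g ∈ NN ε i j) (hx : x ∈ WW V ε i j) : g⁻¹ * x * g ∈ WW V ε i j := by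
  have h1 := WW_conj (inv_mem hg) hx
  rwa [inv_inv] at h1

theorem V_le_WW : V ≤ WW V ε i j := fun v hv => subset_closure ⟨1, one_mem _, v, hv, by group⟩

theorem UU_conj' {g x : G} (hg : g ∈ NN ε i j) (hx : x ∈ UU ε i j) : g⁻¹ * x * g ∈ UU ε i j := by
  have h1 := UU_normal (inv_mem hg) hx
  rwa [inv_inv] at h1

section

variable (h : Engine.Hyp V P ε) (hij : i ≠ j) (hfix : FixL ε i j)
include h hij

theorem V_le_Q : V ≤ o2 (NN ε i j) := (h.V_le hij).trans (h.W2_leQ hij)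

theorem V_le_K : V ≤ KK ε := by
  intro v hv
  obtain ⟨x, rfl⟩ := h.ev.surj v hv
  exact mem_KK'.2 fun y => h.ev.comm_mem (h.ev.mem x) (h.ev.mem y)

/-- the elements of `Q` outside `C_G(V)` act as `(i j)` -/
theorem act_swap {q : G} (hq : q ∈ o2 (NN ε i j)) (hqK : q ∉ KK ε) : Acts ε q (Equiv.swap i j) :=
  (h.QA hij hq).resolve_left hqK

include hfix

theorem gen_mem {g v : G} (hg : g ∈ NN ε i j) (hv : v ∈ V) : g * v * g⁻¹ ∈ KK ε :=
  hfix g hg v (V_le_Q h hij hv) (V_le_K h hij hv)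

theorem WW_le_K : WW V ε i j ≤ KK ε := by
  unfold WW
  rw [closure_le]
  rintro x ⟨g, hg, v, hv, rfl⟩
  exact gen_mem h hij hfix hg hv

omit hfix in
theorem WW_le_Q : WW V ε i j ≤ o2 (NN ε i j) := by
  unfold WW
  rw [closure_le]
  rintro x ⟨g, hg, v, hv, rfl⟩
  exact (mem_normalizer_iff.1 (le_normalizer_o2 _ hg) v).1 (V_le_Q h hij hv)

/-- `Q ∩ C_G(V)` centralises `⟨V^N⟩` -/
theorem Q0_comm {q x : G} (hq : q ∈ o2 (NN ε i j)) (hqK : q ∈ KK ε) (hx : x ∈ WW V ε i j) : q * x = x * q := by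
  unfold WW at hx
  induction hx using closure_induction with
  | mem x hx =>
    obtain ⟨g, hg, v, hv, rfl⟩ := hx
    obtain ⟨y, rfl⟩ := h.ev.surj v hv
    have h1 : g⁻¹ * q * g ∈ KK ε := by
      have := hfix g⁻¹ (inv_mem hg) q hq hqK
      rwa [inv_inv] at this
    have h2 := mem_KK'.1 h1 y
    calc q * (g * ε y * g⁻¹) = g * (g⁻¹ * q * g * ε y) * g⁻¹ := by group
      _ = g * (ε y * (g⁻¹ * q * g)) * g⁻¹ := by rw [h2]
      _ = _ := by group
  | one => rw [one_mul, mul_one]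
  | mul x y _ _ hx hy => rw [← mul_assoc, hx, mul_assoc, hy, mul_assoc]
  | inv x _ hx => rw [mul_inv_eq_iff_eq_mul, mul_assoc, hx, inv_mul_cancel_left]

/-- a conjugate of `q` acts on `⟨V^N⟩` as `q` -/
theorem cj_q {q g x : G} (hq : q ∈ o2 (NN ε i j)) (hqK : q ∉ KK ε) (hg : g ∈ NN ε i j)
    (hx : x ∈ WW V ε i j) : (g * q * g⁻¹) * x * (g * q * g⁻¹)⁻¹ = q * x * q⁻¹ := by
  have hq' : g * q * g⁻¹ ∈ o2 (NN ε i j) := (mem_normalizer_iff.1 (le_normalizer_o2 _ hg) q).1 hq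
  have hqK' : g * q * g⁻¹ ∉ KK ε := by
    intro h1
    have h2 := hfix g⁻¹ (inv_mem hg) _ hq' h1
    have e : g⁻¹ * (g * q * g⁻¹) * g⁻¹⁻¹ = q := by group
    rw [e] at h2
    exact hqK h2
  have h1 := act_swap h hij hq hqK
  have h2 := act_swap h hij hq' hqK'
  have h3 : q⁻¹ * (g * q * g⁻¹) ∈ KK ε := by
    have h4 := h1.inv.mul h2
    rw [inv_mul_cancel] at h4
    exact h4
  have h4 := Q0_comm h hij hfix (mul_mem (inv_mem hq) hq') h3 hx
  calc (g * q * g⁻¹) * x * (g * q * g⁻¹)⁻¹ = q * ((q⁻¹ * (g * q * g⁻¹)) * x) * (g * q * g⁻¹)⁻¹ := by group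
    _ = q * (x * (q⁻¹ * (g * q * g⁻¹))) * (g * q * g⁻¹)⁻¹ := by rw [h4]
    _ = _ := by group

theorem cm_conj {q g x : G} (hq : q ∈ o2 (NN ε i j)) (hqK : q ∉ KK ε) (hg : g ∈ NN ε i j)
    (hx : x ∈ WW V ε i j) : cm q (g * x * g⁻¹) = g * cm q x * g⁻¹ := by
  have h1 := cj_q h hij hfix hq hqK (inv_mem hg) hx
  rw [inv_inv] at h1
  unfold cm
  calc q * (g * x * g⁻¹) * q⁻¹ * (g * x * g⁻¹)⁻¹ = g * ((g⁻¹ * q * g) * x * (g⁻¹ * q * g)⁻¹) * x⁻¹ * g⁻¹ := by group
    _ = g * (q * x * q⁻¹) * x⁻¹ * g⁻¹ := by rw [h1]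
    _ = _ := by group

theorem cm_cases {q x : G} (hq : q ∈ o2 (NN ε i j)) (hqK : q ∉ KK ε) (hx : x ∈ WW V ε i j) :
    cm q x = 1 ∨ cm q x = rr ε i j := by
  have hr := rr_sq h.ev i j
  refine zpow_cases hr ?_
  have hrN : ∀ y ∈ NN ε i j, ∀ z ∈ zpowers (rr ε i j), y * z * y⁻¹ = z := by
    intro y hy z hz
    rcases zpow_cases hr hz with rfl | rfl
    · group
    · exact mem_NN'.1 hy
  have hx' := hx
  unfold WW at hx'
  induction hx' using closure_induction with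
  | mem x hx2 =>
    obtain ⟨g, hg, v, hv, rfl⟩ := hx2
    rw [cm_conj h hij hfix hq hqK hg (V_le_WW hv)]
    obtain ⟨y, rfl⟩ := h.ev.surj v hv
    have h1 : cm q (ε y) ∈ zpowers (rr ε i j) := by
      unfold cm
      rcases h.key_swap hij y (act_swap h hij hq hqK) with h2 | h2
      · rw [h2, mul_inv_cancel]; exact one_mem _
      · rw [h2, h.ev.comm_mem (h.ev.mem y) (rr_mem h.ev i j), mul_inv_cancel_right]
        exact mem_zpowers _
    rw [hrN g hg _ h1]
    exact h1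
  | one => unfold cm; rw [mul_one, mul_inv_cancel, inv_one, mul_one]; exact one_mem _
  | mul x y hx1 hy1 hx2 hy2 =>
    have h1 := hx2 hx1
    have h2 := hy2 hy1
    have e : cm q (x * y) = cm q x * (x * cm q y * x⁻¹) := by unfold cm; group
    rw [e, hrN x ((KK_le_NN i j) (WW_le_K h hij hfix hx1)) _ h2]
    exact mul_mem h1 h2
  | inv x hx1 hx2 =>
    have h1 := hx2 hx1
    have e : cm q x⁻¹ = x⁻¹ * (cm q x)⁻¹ * x⁻¹⁻¹ := by unfold cm; group
    rw [e, hrN x⁻¹ (inv_mem ((KK_le_NN i j) (WW_le_K h hij hfix hx1))) _ (inv_mem h1)]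
    exact inv_mem h1

/-- **(6a)** `[⟨V^N⟩, U_ik] ≤ U_ij` -/
theorem comm_mem [Finite G] {k : Fin n} (hki : k ≠ i) (hkj : k ≠ j) {x a : G} (hx : x ∈ WW V ε i j)
    (ha : a ∈ UU ε i k) : a⁻¹ * (x * a * x⁻¹) ∈ UU ε i j := by
  obtain ⟨w, F⟩ := h.exists_fr
  obtain ⟨h1, h2⟩ := F.uq hij hki hkj ha (WW_le_Q h hij hx) (WW_le_K h hij hfix hx)
  rcases h2 with h2 | h2
  · exact h2
  exfalso
  obtain ⟨q, hq2, hqs⟩ := h.exists_w hij
  have hq := h.W2_leQ hij hq2
  have hqz : ¬ q * zz ε j = zz ε j * q := by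
    intro h3
    have h4 := zz_conj hqs j
    rw [h3, mul_inv_cancel_right, Equiv.swap_apply_right] at h4
    exact hij (h.ev.single_inj h.n3 h4.symm)
  have hqK : q ∉ KK ε := fun hK => hqz (Fr.Kz hK j)
  have haK := h.UK hki.symm ha
  have haN : a ∈ NN ε i j := KK_le_NN i j haK
  have hxN : x ∈ NN ε i j := KK_le_NN i j (WW_le_K h hij hfix hx)
  -- `q` commutes with `[a, x]`
  have h3 := cm_conj h hij hfix hq hqK (inv_mem haN) hx
  rw [inv_inv] at h3
  have hc := cm_cases h hij hfix hq hqK hx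
  have hcc : ∀ y ∈ NN ε i j, y * cm q x = cm q x * y := by
    intro y hy
    rcases hc with h4 | h4
    · rw [h4, one_mul, mul_one]
    · rw [h4]; exact mem_NN.1 hy
  have h4 : cm q (a⁻¹ * x * a) = cm q x := by
    rw [h3, hcc _ (inv_mem haN), mul_assoc, inv_mul_cancel, mul_one]
  have h5 : q * (a⁻¹ * (x * a * x⁻¹)) * q⁻¹ = a⁻¹ * (x * a * x⁻¹) := by
    have e : q * (a⁻¹ * (x * a * x⁻¹)) * q⁻¹ = cm q (a⁻¹ * x * a) * (a⁻¹ * x * a) * (cm q x * x)⁻¹ := by
      unfold cm; group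
    rw [e, h4, mul_inv_rev, ← hcc _ (mul_mem (mul_mem (inv_mem haN) hxN) haN)]
    have e2 : a⁻¹ * x * a * cm q x * (x⁻¹ * (cm q x)⁻¹) = a⁻¹ * x * a * (cm q x * x⁻¹ * (cm q x)⁻¹) := by group
    rw [e2, ← hcc _ (inv_mem hxN), mul_assoc x⁻¹, mul_inv_cancel, mul_one]
    group
  have h6 := h.UQc hij hq h2
  apply hqz
  have h7 : q * (a⁻¹ * (x * a * x⁻¹)) = a⁻¹ * (x * a * x⁻¹) * q := mul_inv_eq_iff_eq_mul.1 h5
  set b := a⁻¹ * (x * a * x⁻¹) with hb
  have h9 : q * (b * zz ε j) = b * zz ε j * q := h6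
  have h8 : b * (q * zz ε j) = b * (zz ε j * q) := by
    rw [← mul_assoc, ← h7, mul_assoc, h9, mul_assoc]
  exact mul_left_cancel h8

end

/-- the elements of `N` which centralise `A` modulo `U` -/
def CU (ε : (Fin n → ZMod 2) → G) (i j : Fin n) (A : Set G) : Subgroup G where
  carrier := {g | g ∈ NN ε i j ∧ ∀ x ∈ A, g * x * g⁻¹ * x⁻¹ ∈ UU ε i j}
  one_mem' := ⟨one_mem _, fun x _ => by
    have : (1 : G) * x * 1⁻¹ * x⁻¹ = 1 := by group
    rw [this]; exact one_mem _⟩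
  mul_mem' := by
    rintro a b ⟨ha, ha1⟩ ⟨hb, hb1⟩
    refine ⟨mul_mem ha hb, fun x hx => ?_⟩
    have e : a * b * x * (a * b)⁻¹ * x⁻¹ = (a * (b * x * b⁻¹ * x⁻¹) * a⁻¹) * (a * x * a⁻¹ * x⁻¹) := by group
    rw [e]
    exact mul_mem (UU_normal ha (hb1 x hx)) (ha1 x hx)
  inv_mem' := by
    rintro a ⟨ha, ha1⟩
    refine ⟨inv_mem ha, fun x hx => ?_⟩
    have e : a⁻¹ * x * a⁻¹⁻¹ * x⁻¹ = a⁻¹ * (a * x * a⁻¹ * x⁻¹)⁻¹ * a := by group
    rw [e]
    exact UU_conj' ha (inv_mem (ha1 x hx))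

theorem CU_mono {A B : Set G} (hAB : A ⊆ B) : CU ε i j B ≤ CU ε i j A := fun _ hg => ⟨hg.1, fun x hx => hg.2 x (hAB hx)⟩

/-- `C_N(⟨V^N⟩ / U)` is normal in `N` -/
theorem CU_WW_conj {g x : G} (hg : g ∈ NN ε i j) (hx : x ∈ CU ε i j (WW V ε i j)) :
    g * x * g⁻¹ ∈ CU ε i j (WW V ε i j : Set G) := by
  refine ⟨mul_mem (mul_mem hg hx.1) (inv_mem hg), fun y hy => ?_⟩
  have e : g * x * g⁻¹ * y * (g * x * g⁻¹)⁻¹ * y⁻¹ =
      g * (x * (g⁻¹ * y * g) * x⁻¹ * (g⁻¹ * y * g)⁻¹) * g⁻¹ := by group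
  rw [e]
  exact UU_normal hg (hx.2 _ (WW_conj' hg hy))

/-- **(6b)** `X₀` centralises `⟨V^N⟩ / U` -/
theorem XX_le_CU [Finite G] (h : Engine.Hyp V P ε) (hij : i ≠ j) (hfix : FixL ε i j) :
    XX ε i j ≤ CU ε i j (WW V ε i j) := by
  unfold XX
  rw [closure_le]
  rintro a ⟨k, hki, hkj, ha⟩
  refine ⟨KK_le_NN i j (h.UK hki.symm ha), fun x hx => ?_⟩
  have h1 := comm_mem h hij hfix hki hkj hx (inv_mem ha)
  have e : a⁻¹⁻¹ * (x * a⁻¹ * x⁻¹) = a * x * a⁻¹ * x⁻¹ := by group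
  rwa [e] at h1

/-- **(6c)**: the end, from a fixed coset -/
theorem UU_le_V [Finite G] (h : Engine.Hyp V P ε) (hij : i ≠ j) {T A : Subgroup G} (hTN : T ≤ NN ε i j)
    (hodd : Odd (T.relIndex (NN ε i j)))
    (hT : ∀ t ∈ T, t * zz ε i * t⁻¹ = zz ε i ∨ t * zz ε i * t⁻¹ = zz ε j)
    (hN : ∀ g ∈ NN ε i j, g * zz ε i * g⁻¹ * (zz ε i)⁻¹ ∈ UU ε i j)
    (hVA : V ≤ A) (hA : ∀ g, g * zz ε i = zz ε i * g → ∀ a ∈ A, g * a * g⁻¹ ∈ A)
    (hAc : ∀ a ∈ A, ∀ b ∈ A, a * b = b * a) : UU ε i j ≤ V := by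
  obtain ⟨w, F⟩ := h.exists_fr
  have hr := rr_sq h.ev i j
  have hri : (rr ε i j)⁻¹ = rr ε i j := F.r_inv i j
  have hzi : ∀ k, (zz ε k)⁻¹ = zz ε k := F.z_inv
  have hzj : zz ε j = zz ε i * rr ε i j := by
    unfold rr; rw [← mul_assoc, F.z_sq, one_mul]
  have hzK : zz ε i ∈ NN ε i j := KK_le_NN i j (F.zK i)
  have hrN : ∀ y ∈ NN ε i j, ∀ z ∈ zpowers (rr ε i j), y * z * y⁻¹ = z := by
    intro y hy z hz
    rcases zpow_cases hr hz with rfl | rfl
    · group
    · exact mem_NN'.1 hy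
  have hDU : zpowers (rr ε i j) ≤ UU ε i j := by
    rw [zpowers_le]; exact F.rU hij
  -- averaging
  obtain ⟨y, hy, hyf⟩ := Cfsg.Agent.Omega.BTwo.Avg.avg (c := zz ε i) (Y := UU ε i j) (D := zpowers (rr ε i j)) hTN hodd hDU
    (fun x hx y hy => UU_normal hx hy) (fun x hx y hy => by rw [hrN x hx y hy]; exact hy)
    (fun x hx y hy => by rw [hrN x (KK_le_NN i j (h.UK hij hx)) y hy]; exact hy)
    (fun y hy => by rw [h.Usq hij hy]; exact one_mem _)
    (fun x hx => by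
      have e : (zz ε i)⁻¹ * x * zz ε i * x⁻¹ = (zz ε i)⁻¹ * (x * zz ε i * x⁻¹ * (zz ε i)⁻¹) * zz ε i := by group
      rw [e]
      exact UU_conj' hzK (hN x hx))
    (fun x hx => by
      have e : (zz ε i)⁻¹ * x * zz ε i * x⁻¹ = (zz ε i)⁻¹ * (x * zz ε i * x⁻¹) := by group
      rw [e]
      rcases hT x hx with h1 | h1
      · rw [h1, inv_mul_cancel]; exact one_mem _
      · rw [h1, hzj, inv_mul_cancel_left]; exact mem_zpowers _)
  -- the elements of `N` fixing `z_i` fix `y` modulo `r`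
  have hyy : ∀ x ∈ NN ε i j, x * zz ε i * x⁻¹ = zz ε i → x * y * x⁻¹ = y ∨ x * y * x⁻¹ = y * rr ε i j := by
    intro x hx hxz
    have e : (zz ε i * y)⁻¹ * x * (zz ε i * y) * x⁻¹ = y⁻¹ * ((zz ε i)⁻¹ * (x * zz ε i * x⁻¹)) * (x * y * x⁻¹) := by group
    have h1 := hyf x hx
    rw [e, hxz, inv_mul_cancel, mul_one] at h1
    rcases zpow_cases hr h1 with h2 | h2
    · exact Or.inl (inv_mul_eq_one.1 h2).symm
    · exact Or.inr (inv_mul_eq_iff_eq_mul.1 h2)
  -- `y ∈ V`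
  have hyK := h.UK hij hy
  obtain ⟨v, hv1, hv2, hv⟩ := h.fix_V hij hy fun k hki hkj a ha => by
    have haK := h.UK hki.symm ha
    have h1 : a * zz ε i * a⁻¹ = zz ε i := by rw [Fr.Kz haK, mul_inv_cancel_right]
    have e : cm y a = y * (a * y * a⁻¹)⁻¹ := by unfold cm; group
    rw [e]
    rcases hyy a (KK_le_NN i j haK) h1 with h2 | h2
    · left; rw [h2, mul_inv_cancel]
    · right; rw [h2, mul_inv_rev, hri, ← mul_assoc, Fr.Kr hyK, mul_inv_cancel_right]
  -- `y` is constant off `{i, j}`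
  have hcon : ∀ k l, k ≠ i → k ≠ j → l ≠ i → l ≠ j → k ≠ l → v k = v l := by
    intro k l hki hkj hli hlj hkl
    obtain ⟨p, hp, hps⟩ := h.ev.full (Equiv.swap k l)
    have hsi : Equiv.swap k l i = i := Equiv.swap_apply_of_ne_of_ne hki.symm hli.symm
    have hsj : Equiv.swap k l j = j := Equiv.swap_apply_of_ne_of_ne hkj.symm hlj.symm
    have hpN := h.acts_NN hps hsi hsj
    have h1 : p * zz ε i * p⁻¹ = zz ε i := by rw [zz_conj hps, hsi]
    have h2 := hyy p hpN h1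
    rw [hv, hps v] at h2
    have hvi : (v ∘ (Equiv.swap k l).symm) i = v i := by
      rw [Function.comp_apply, Equiv.symm_swap, hsi]
    rcases h2 with h2 | h2
    · rcases (h.ev.eq_iff).1 h2 with h3 | h3
      · have h4 := congrFun h3 k
        rw [Function.comp_apply, Equiv.symm_swap, Equiv.swap_apply_left] at h4
        exact h4.symm
      · exfalso
        have h4 := congrFun h3 i
        rw [hvi, Pi.add_apply, Pi.one_apply] at h4
        exact one_ne_zero (left_eq_add.1 h4)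
    · exfalso
      rw [F.rr_eq, ← h.ev.add] at h2
      rcases (h.ev.eq_iff).1 h2 with h3 | h3
      · have h4 := congrFun h3 i
        rw [hvi, Pi.add_apply, Pi.add_apply, Pi.single_eq_same, Pi.single_eq_of_ne hij, add_zero] at h4
        exact one_ne_zero (left_eq_add.1 h4)
      · obtain ⟨m, h5, h6, h7, h8⟩ := exists_fifth h.n5 i j k l
        have h4 := congrFun h3 m
        rw [Function.comp_apply, Equiv.symm_swap, Equiv.swap_apply_of_ne_of_ne h7 h8, Pi.add_apply, Pi.add_apply,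
          Pi.add_apply, Pi.single_eq_of_ne h5, Pi.single_eq_of_ne h6, add_zero, add_zero, Pi.one_apply] at h4
        exact one_ne_zero (left_eq_add.1 h4)
  have hy1 : y = 1 ∨ y = rr ε i j := by
    obtain ⟨k, hki, hkj, -, -⟩ := exists_fifth h.n5 i j i j
    have h1 : ∀ l, l ≠ i → l ≠ j → v l = v k := by
      intro l hli hlj
      by_cases hkl : k = l
      · rw [hkl]
      · exact (hcon k l hki hkj hli hlj hkl).symm
    rcases Tv.z2 (v k) with h2 | h2
    · left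
      have h3 : v = 0 := by
        funext l
        by_cases hli : l = i
        · rw [hli, hv1]; rfl
        by_cases hlj : l = j
        · rw [hlj, hv2]; rfl
        rw [h1 l hli hlj, h2]; rfl
      rw [hv, h3, h.ev.zero]
    · right
      have h3 : v = 1 + (Pi.single i 1 + Pi.single j 1) := by
        funext l
        rw [Pi.add_apply, Pi.add_apply, Pi.one_apply]
        by_cases hli : l = i
        · rw [hli, hv1, Pi.single_eq_same, Pi.single_eq_of_ne hij]; decide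
        by_cases hlj : l = j
        · rw [hlj, hv2, Pi.single_eq_same, Pi.single_eq_of_ne hij.symm]; decide
        rw [h1 l hli hlj, h2, Pi.single_eq_of_ne hli, Pi.single_eq_of_ne hlj, add_zero, add_zero]
      rw [hv, h3, h.ev.add, h.ev.one, one_mul, F.rr_eq]
  -- `N` normalises `⟨r, z_i⟩`
  have hz : ∀ g ∈ NN ε i j, g * zz ε i * g⁻¹ = zz ε i ∨ g * zz ε i * g⁻¹ = zz ε j := by
    intro g hg
    have h1 := hyf g hg
    have h2 : ∀ x ∈ NN ε i j, x * y = y * x := by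
      intro x hx
      rcases hy1 with rfl | rfl
      · rw [one_mul, mul_one]
      · exact mem_NN.1 hx
    have e : (zz ε i * y)⁻¹ * g * (zz ε i * y) * g⁻¹ = (zz ε i)⁻¹ * (g * zz ε i * g⁻¹) := by
      rw [h2 _ hzK, mul_inv_rev]
      calc (zz ε i)⁻¹ * y⁻¹ * g * (y * zz ε i) * g⁻¹ = (zz ε i)⁻¹ * (y⁻¹ * (g * y)) * zz ε i * g⁻¹ := by group
        _ = (zz ε i)⁻¹ * (y⁻¹ * (y * g)) * zz ε i * g⁻¹ := by rw [h2 g hg]
        _ = _ := by group
    rw [e] at h1
    rcases zpow_cases hr h1 with h3 | h3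
    · exact Or.inl (inv_mul_eq_one.1 h3).symm
    · right
      rw [hzj]
      exact inv_mul_eq_iff_eq_mul.1 h3
  -- `U ≤ A`
  obtain ⟨q, hq2, hqs⟩ := h.exists_w hij
  have hq := h.W2_leQ hij hq2
  have hqN : q ∈ NN ε i j := o2_le _ hq
  have hUA : UU ε i j ≤ A := by
    have hUU : UU ε i j = closure {x | ∃ g ∈ NN ε i j, ∃ k, k ≠ i ∧ k ≠ j ∧ x = g * zz ε k * g⁻¹} := rfl
    rw [hUU, closure_le]
    rintro x ⟨g, hg, k, hki, hkj, rfl⟩
    rcases hz g hg with h1 | h1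
    · exact hA g (mul_inv_eq_iff_eq_mul.1 h1) _ (hVA (zz_mem h.ev k))
    · have h2 : (q * g) * zz ε i * (q * g)⁻¹ = zz ε i := by
        have e : (q * g) * zz ε i * (q * g)⁻¹ = q * (g * zz ε i * g⁻¹) * q⁻¹ := by group
        rw [e, h1, zz_conj hqs, Equiv.swap_apply_right]
      have h3 := hA _ (mul_inv_eq_iff_eq_mul.1 h2) _ (hVA (zz_mem h.ev k))
      have h4 : (q * g) * zz ε k * (q * g)⁻¹ ∈ UU ε i j := by
        rw [hUU]
        exact subset_closure ⟨q * g, mul_mem hqN hg, k, hki, hkj, rfl⟩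
      have h5 := h.UQc hij hq h4
      have e : g * zz ε k * g⁻¹ = q⁻¹ * ((q * g) * zz ε k * (q * g)⁻¹) * q := by group
      change g * zz ε k * g⁻¹ ∈ A
      rw [e, mul_assoc, ← h5, inv_mul_cancel_left]
      exact h3
  -- `U_ik ≤ A`
  have hUA' : ∀ k, k ≠ i → k ≠ j → UU ε i k ≤ A := by
    intro k hki hkj a ha
    obtain ⟨p, -, hp⟩ := h.ev.full (Equiv.swap j k)
    have hsi : Equiv.swap j k i = i := Equiv.swap_apply_of_ne_of_ne hij hki.symm
    have h1 : p⁻¹ * a * p ∈ UU ε i j := by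
      have h2 := UU_conj hp.inv ha
      rw [Equiv.swap_inv, hsi, Equiv.swap_apply_right, inv_inv] at h2
      exact h2
    have h2 := hA p (by
      have := zz_conj hp i
      rw [hsi] at this
      exact mul_inv_eq_iff_eq_mul.1 this) _ (hUA h1)
    have e : p * (p⁻¹ * a * p) * p⁻¹ = a := by group
    rwa [e] at h2
  intro s hs
  obtain ⟨x, -, -, rfl⟩ := h.fix_V hij hs fun k hki hkj a ha =>
    Or.inl (cm_one_iff.2 (hAc s (hUA hs) a (hUA' k hki hkj ha)))
  exact h.ev.mem x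

/-- if one `U_ij` is in `V`, all are -/
theorem UU_le_V_all (h : Engine.Hyp V P ε) (hij : i ≠ j) (hU : UU ε i j ≤ V) {a b : Fin n} (hab : a ≠ b) :
    UU ε a b ≤ V := by
  obtain ⟨σ, h1, h2, -⟩ := exists_perm hij hab
  obtain ⟨p, hp, hps⟩ := h.ev.full σ
  intro x hx
  have h3 := UU_conj hps.inv hx
  have e : ∀ m, σ⁻¹ (σ m) = m := fun m => σ.symm_apply_apply m
  rw [← h1, ← h2, e, e, inv_inv] at h3
  obtain ⟨y, hy⟩ := h.ev.surj _ (hU h3)
  have h4 : x = p * (p⁻¹ * x * p) * p⁻¹ := by group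
  rw [h4, ← hy, hps y]
  exact h.ev.mem _

end Cfsg.Agent.Omega.NSix.HT.Fix

end

end

-- merged: Cfsg.Agent.Mrg.Omega.NSix.HTwo.LemTwoIn
section

/-!
# OMEGA N6, #18323 (1): the input of `LemTwo`, LEMMA 1 plugged in  (helper537)

`In.of` : only `hX` (#16633 (1)) is left: `g ∈ C_G(r_ij)` normalising `V ∩ r_ij^⊥` acts on the labels.
-/

set_option autoImplicit false

namespace Cfsg.Agent.Omega.NSix.HTwo.LemTwo

open Subgroup Cfsg
open Cfsg.Agent.Omega.S5.Def Cfsg.Agent.Omega.S5.Syl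
open Cfsg.Agent.Omega.NSix.Base Cfsg.Agent.Omega.NSix.Basic Cfsg.Agent.Omega.NSix.Engine
open Cfsg.Agent.Omega.NSix.CosetAct (V0 mem_V0)
open Cfsg.Agent.Omega.TTn.Di (cm cj)

universe u

variable {G : Type u} [Group G]

/-- LEMMA 1 (helper546) in the form of `In.one` -/
theorem one_of [Finite G] {n : ℕ} {V P : Subgroup G} {ε : (Fin n → ZMod 2) → G} (h : Engine.Hyp V P ε)
    {i j : Fin n} (hij : i ≠ j) :
    ∀ u ∈ UU ε i j, ∀ a ∈ UU ε i j,
      (∀ k, k ≠ i → k ≠ j → ∀ y ∈ UU ε i k, cm u y = 1 ∨ cm u y = a) → ∃ x, u = ε x := by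
  intro u hu a _ ha
  obtain ⟨w, F⟩ := h.exists_fr
  obtain ⟨x, -, -, hx⟩ := Fr.lem1' F h.thC hij hu (D := zpowers a) (by
    intro k hki hkj
    by_cases hc : Fr.Cen (UU ε) u i k
    · exact Or.inl hc
    · right
      apply le_antisymm
      · refine cS_le fun y hy => ?_
        rcases ha k hki hkj y hy with h1 | h1
        · rw [h1]; exact one_mem _
        · rw [h1]; exact mem_zpowers a
      · rw [zpowers_le]
        by_contra hcon
        refine hc fun y hy => ?_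
        rcases ha k hki hkj y hy with h1 | h1
        · exact Cfsg.Agent.Omega.TTn.Di.cm_one_iff.1 h1
        · exact absurd (h1 ▸ mem_cS hy) hcon)
  exact ⟨x, hx⟩

/-- **the input from #16633 (1)** -/
theorem In.of [Finite G] {m : ℕ} {S : Sylow 2 G} {V P : Subgroup G} {ε : (Fin (2 ^ m + 1) → ZMod 2) → G}
    {i j : Fin (2 ^ m + 1)} (h : Engine.Hyp V P ε) (hm : 2 ≤ m) (SP : (S : Subgroup G) ≤ P)
    (fix0 : Fix0 ε (S : Subgroup G)) (hij : i ≠ j) (hswap : ∃ b ∈ (S : Subgroup G), Acts ε b (Equiv.swap i j))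
    (hX : ∀ g ∈ NN ε i j, (∀ x : Fin (2 ^ m + 1) → ZMod 2, x i = x j → ∃ y, y i = y j ∧ cj g (ε x) = ε y) →
      g ∈ LL ε) : In S V P ε i j where
  hyp := h
  hm := hm
  SP := SP
  fix0 := fix0
  ij := hij
  swap := hswap
  one := one_of h hij
  cut := by
    rintro g ⟨hg, hgV⟩
    obtain ⟨σ, hσ⟩ := hX g hg fun x hx => by
      have h1 := (mem_normalizer_iff.1 hgV _).1 (mem_V0 h.ev hx)
      obtain ⟨y, hy⟩ := h.ev.surj _ (V0_le h h1)
      refine ⟨y, ?_, hy.symm⟩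
      rw [← hy] at h1
      exact (h.eU hij y).1 (V0_le_UU h1)
    exact acts_norm h.ev hσ

end Cfsg.Agent.Omega.NSix.HTwo.LemTwo

end

-- merged: Cfsg.Agent.Mrg.Omega.NSix.JNot
section

section


/-!
# OMEGA N6, #16862 (helper556; referee helper642 #17077): `J(S) ≰ O₂(P)`  (helper537)

* `Gen.nn_le_X` : `C_G(r_ij) ≤ X` as soon as `C_S(r_ij)` lies in it, its normaliser in `C_G(r_ij)` lies in `X` and so
  do the minimal parabolics over it;
* `nn_le` : `V = V_P` even subsets of `2^m + 1 ≥ 9` points, `⟨P, C_G(z)⟩` 2-local, `C_G(r_ij) ≤ ⟨P, C_G(z)⟩`,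
  `z_0` and `r_ij` not conjugate, **(N)**: `C_G(r_ij) ≤ N_G(V)` for all pairs.
-/

set_option autoImplicit false

namespace Cfsg.Agent.Omega.NSix.JNot

open Subgroup Cfsg Cfsg.Agent.Omega.MinPar
open Cfsg.Agent.ZN (o2 zc zl)
open Cfsg.Agent.MinSimple.VModule (o2_le o2_isPGroup le_normalizer_o2 le_o2 mem_zc zc_le_zl
  le_normalizer_zl zl_le zc_le zc_comm zc_sq)
open Cfsg.Agent.Omega.FrameNOFF (CZ)
open Cfsg.Agent.Omega.TV
open Cfsg.Agent.Omega.S5.Def Cfsg.Agent.Omega.S5.Syl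
open Cfsg.Agent.Omega.NSix.Base Cfsg.Agent.Omega.NSix.Basic
open Cfsg.Agent.Omega.NSix.Zero (WP mem_WP zpow_cases)
open Cfsg.Agent.Omega.NSix.TvGroup (chain_of eq_of_tv)
open Cfsg.Agent.MinSimple.MinParabolic (IsMinPar)

universe u

variable {G : Type u} [Group G]

/-- an element of `N_G(V)` with `[V, t] ≤ ⟨r_ij⟩` acts as `1` or as `(i j)` -/
theorem acts_swap {n : ℕ} (h5 : 5 ≤ n) {V P : Subgroup G} {ε : (Fin n → ZMod 2) → G}
    (ev : EvenSet n V P ε) {i j : Fin n} (hij : i ≠ j) {t : G} {σ : Equiv.Perm (Fin n)}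
    (hσ : Acts ε t σ) (ht : ∀ v ∈ V, t * v * t⁻¹ = v ∨ t * v * t⁻¹ = v * rr ε i j) :
    Acts ε t 1 ∨ Acts ε t (Equiv.swap i j) := by
  classical
  have hfix : ∀ k, k ≠ i → k ≠ j → σ k = k := by
    intro k h1 h2
    by_contra hk
    have h3 := zz_conj hσ k
    rcases ht _ (zz_mem ev k) with h4 | h4
    · rw [h4] at h3
      exact hk (ev.single_inj (by omega) h3.symm)
    · rw [h4] at h3
      -- `{σ k} + {k} + {i} + {j} ∈ {0, 1}`
      have h5' : ε (Pi.single (σ k) 1 + Pi.single k 1 + (Pi.single i 1 + Pi.single j 1)) = 1 := by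
        rw [ev.add, ev.add, ev.add]
        change zz ε (σ k) * zz ε k * (rr ε i j) = 1
        have h6 : zz ε k * rr ε i j = rr ε i j * zz ε k := ev.comm_mem (zz_mem ev k) (rr_mem ev i j)
        calc zz ε (σ k) * zz ε k * rr ε i j = (zz ε k * rr ε i j) * (zz ε k * rr ε i j) := by
              rw [← h3, mul_assoc]
          _ = rr ε i j * (zz ε k * zz ε k) * rr ε i j := by rw [h6]; nth_rewrite 2 [← h6]; group
          _ = 1 := by rw [zz_sq ev, mul_one, rr_sq ev]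
      rcases (ev.ker _).1 h5' with h6 | h6
      · have h7 := congrFun h6 k
        simp only [Pi.add_apply, Pi.single_eq_same, Pi.zero_apply] at h7
        rw [Pi.single_eq_of_ne (fun e => hk e.symm), Pi.single_eq_of_ne h1, Pi.single_eq_of_ne h2] at h7
        simp at h7
      · -- a fifth letter
        obtain ⟨l, hl⟩ : ∃ l : Fin n, l ∉ ({σ k, k, i, j} : Finset (Fin n)) := by
          by_contra hcon
          push Not at hcon
          have h8 : (Finset.univ : Finset (Fin n)) ⊆ {σ k, k, i, j} := fun l _ => hcon l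
          have h9 := Finset.card_le_card h8
          have h10 : ({σ k, k, i, j} : Finset (Fin n)).card ≤ 4 := Finset.card_le_four
          rw [Finset.card_univ, Fintype.card_fin] at h9
          omega
        simp only [Finset.mem_insert, Finset.mem_singleton, not_or] at hl
        have h7 := congrFun h6 l
        simp only [Pi.add_apply, Pi.one_apply] at h7
        rw [Pi.single_eq_of_ne hl.1, Pi.single_eq_of_ne hl.2.1, Pi.single_eq_of_ne hl.2.2.1,
          Pi.single_eq_of_ne hl.2.2.2] at h7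
        simp at h7
  have hpres : σ i = i ∨ σ i = j := by
    by_contra hc
    rw [not_or] at hc
    exact hc.1 (σ.injective (hfix _ hc.1 hc.2))
  have hpres' : σ j = i ∨ σ j = j := by
    by_contra hc
    rw [not_or] at hc
    exact hc.2 (σ.injective (hfix _ hc.1 hc.2))
  rcases hpres with h1 | h1
  · left
    have h2 : σ j = j := hpres'.resolve_left fun h2 => hij (σ.injective (h1.trans h2.symm))
    have h3 : σ = 1 := by
      ext k
      by_cases hk1 : k = i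
      · rw [hk1, h1]; rfl
      by_cases hk2 : k = j
      · rw [hk2, h2]; rfl
      rw [hfix k hk1 hk2]; rfl
    rwa [h3] at hσ
  · right
    have h2 : σ j = i := hpres'.resolve_right fun h2 => hij (σ.injective (h1.trans h2.symm))
    have h3 : σ = Equiv.swap i j := by
      ext k
      by_cases hk1 : k = i
      · rw [hk1, h1, Equiv.swap_apply_left]
      by_cases hk2 : k = j
      · rw [hk2, h2, Equiv.swap_apply_right]
      rw [hfix k hk1 hk2, Equiv.swap_apply_of_ne_of_ne hk1 hk2]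
    rwa [h3] at hσ

theorem closure_norm (X : Subgroup G) (z : G) :
    X ≤ normalizer ((closure {x | ∃ c ∈ X, x = c * z * c⁻¹} : Subgroup G) : Set G) := by
  have key : ∀ g ∈ X, ∀ x ∈ closure {x | ∃ c ∈ X, x = c * z * c⁻¹},
      g * x * g⁻¹ ∈ closure {x | ∃ c ∈ X, x = c * z * c⁻¹} := by
    intro g hg x hx
    induction hx using closure_induction with
    | mem x hx =>
      obtain ⟨c, hc, rfl⟩ := hx
      exact subset_closure ⟨g * c, mul_mem hg hc, by group⟩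
    | one => simp
    | mul x y _ _ hx hy =>
      have e : g * (x * y) * g⁻¹ = g * x * g⁻¹ * (g * y * g⁻¹) := by group
      rw [e]
      exact mul_mem hx hy
    | inv x _ hx =>
      have e : g * x⁻¹ * g⁻¹ = (g * x * g⁻¹)⁻¹ := by group
      rw [e]
      exact inv_mem hx
  intro g hg
  rw [mem_normalizer_iff]
  intro x
  refine ⟨key g hg x, fun hx => ?_⟩
  have := key g⁻¹ (inv_mem hg) _ hx
  have e : g⁻¹ * (g * x * g⁻¹) * g⁻¹⁻¹ = x := by group
  rwa [e] at this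

section main

variable [Finite G] {S : Sylow 2 G} {P : Subgroup G} {m : ℕ}
  {ε : (Fin (2 ^ m + 1) → ZMod 2) → G}

theorem V_le_S (hG : IsCharacteristicTwoType G) (hP : IsParS (S : Subgroup G) P) :
    zl (S : Subgroup G) P ≤ (S : Subgroup G) :=
  (hP.isLoc.zl_le S hG).trans ((zc_le _).trans (hP.isLoc.o2_le S))

/-- `Ω₁ Z(S) = ⟨z_0⟩` -/
theorem zc_iff (hG : IsCharacteristicTwoType G) (hm : 1 ≤ m) (hP : IsParS (S : Subgroup G) P)
    (ev : EvenSet (2 ^ m + 1) (zl (S : Subgroup G) P) P ε) (h0 : Fix0 ε (S : Subgroup G)) {x : G} :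
    x ∈ zc (S : Subgroup G) ↔ x = 1 ∨ x = zz ε 0 := by
  constructor
  · intro hx
    exact fixed hm ev hP.le (MinSimple.Basic.not_dvd_relIndex S hP.le) h0 (zc_le_zl _ _ hx)
      (mem_zc.1 hx).2.1
  · rintro (rfl | rfl)
    · exact one_mem _
    · refine mem_zc.2 ⟨V_le_S hG hP (zz_mem ev 0), fun s hs => ?_, by rw [pow_two]; exact zz_sq ev 0⟩
      obtain ⟨σ, hσ⟩ := ev.perm s (hP.le hs)
      have h1 := zz_conj hσ 0
      rw [h0 s hs σ hσ] at h1
      exact mul_inv_eq_iff_eq_mul.1 h1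

omit [Finite G] in
/-- `V ≤ ⟨z_0^P⟩` -/
theorem V_le_closure (ev : EvenSet (2 ^ m + 1) (zl (S : Subgroup G) P) P ε)
    {K : Subgroup G} (hK : ∀ i, zz ε i ∈ K) : zl (S : Subgroup G) P ≤ K := by
  classical
  intro v hv
  obtain ⟨x, rfl⟩ := ev.surj v hv
  have key : ∀ A : Finset (Fin (2 ^ m + 1)), ε (∑ i ∈ A, Pi.single i (x i)) ∈ K := by
    intro A
    induction A using Finset.induction_on with
    | empty => rw [Finset.sum_empty, ev.zero]; exact one_mem _
    | insert a A ha ih =>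
      rw [Finset.sum_insert ha, ev.add]
      refine mul_mem ?_ ih
      rcases z2 (x a) with h1 | h1
      · rw [h1, Pi.single_zero, ev.zero]; exact one_mem _
      · rw [h1]; exact hK a
  have h1 := key Finset.univ
  rwa [Finset.univ_sum_single] at h1

omit [Finite G] in
/-- `z_0` is a product of pairs -/
theorem zz_zero_mem {V P K : Subgroup G} (ev : EvenSet (2 ^ m + 1) V P ε) (hm : 1 ≤ m)
    (hK : ∀ k, k ≠ 0 → rr ε k 0 ∈ K) : zz ε 0 ∈ K := by
  classical
  have key : ∀ A : Finset (Fin (2 ^ m + 1)),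
      ε (∑ k ∈ A, ((Pi.single k 1 : Fin (2 ^ m + 1) → ZMod 2) + Pi.single 0 1)) ∈ K := by
    intro A
    induction A using Finset.induction_on with
    | empty => rw [Finset.sum_empty, ev.zero]; exact one_mem _
    | insert a A ha ih =>
      rw [Finset.sum_insert ha, ev.add]
      refine mul_mem ?_ ih
      by_cases h1 : a = 0
      · rw [h1, Cfsg.Agent.Omega.S5.Def.add_self, ev.zero]; exact one_mem _
      · rw [ev.add]; exact hK a h1
  have h1 := key Finset.univ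
  have h2 : ∑ k : Fin (2 ^ m + 1), ((Pi.single k 1 : Fin (2 ^ m + 1) → ZMod 2) + Pi.single 0 1) =
      1 + Pi.single 0 1 := by
    rw [Finset.sum_add_distrib]
    congr 1
    · funext l
      rw [Finset.sum_apply, Pi.one_apply]
      simp only [Pi.single_apply]
      rw [Finset.sum_ite_eq Finset.univ l, if_pos (Finset.mem_univ _)]
    · rw [Finset.sum_const, Finset.card_univ, Fintype.card_fin]
      have h3 : ((2 ^ m + 1 : ℕ) : ZMod 2) = 1 := by
        obtain ⟨k, rfl⟩ : ∃ k, m = k + 1 := ⟨m - 1, by omega⟩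
        push_cast
        rw [show (2 : ZMod 2) = 0 from rfl, zero_pow (by omega), zero_add]
      rw [← Nat.cast_smul_eq_nsmul (ZMod 2), h3, one_smul]
  rw [h2, ev.add, ev.one, one_mul] at h1
  exact h1

/-- `N_G(V) ≤ ⟨P, C_G(z_0)⟩` -/
theorem normalizer_le (hm : 2 ≤ m) (hP : IsParS (S : Subgroup G) P)
    (ev : EvenSet (2 ^ m + 1) (zl (S : Subgroup G) P) P ε) (h0 : Fix0 ε (S : Subgroup G))
    {X : Subgroup G} (hPX : P ≤ X) (hCX : centralizer ({zz ε 0} : Set G) ≤ X) :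
    normalizer (zl (S : Subgroup G) P : Set G) ≤ X := by
  intro g hg
  have ev' := Norm.evenSet' hm S ev hP.le h0
  obtain ⟨σ, hσ⟩ := ev'.perm g hg
  obtain ⟨p, hp, hpσ⟩ := ev.full σ
  have h1 : p⁻¹ * g ∈ centralizer (zl (S : Subgroup G) P : Set G) := by
    rw [← ev.acts_one_iff]
    have := hpσ.inv.mul hσ
    rwa [inv_mul_cancel] at this
  have h2 : p⁻¹ * g ∈ X := hCX (centralizer_le (by
    rw [Set.singleton_subset_iff]; exact zz_mem ev 0) h1)
  have h3 : g = p * (p⁻¹ * g) := by group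
  rw [h3]
  exact mul_mem (hPX hp) h2

omit [Finite G] in
/-- all pairs are conjugate -/
theorem NN_le_of_one (ev : EvenSet (2 ^ m + 1) (zl (S : Subgroup G) P) P ε) {X : Subgroup G}
    (hPX : P ≤ X) {i j : Fin (2 ^ m + 1)} (hij : i ≠ j) (hX : NN ε i j ≤ X) {k l : Fin (2 ^ m + 1)}
    (hkl : k ≠ l) : NN ε k l ≤ X := by
  classical
  intro g hg
  obtain ⟨σ, h1, h2, -⟩ := exists_perm hkl hij
  obtain ⟨p, hp, hpσ⟩ := ev.full σ
  have h3 := conj_NN hpσ hg
  rw [h1, h2] at h3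
  have h4 : g = p⁻¹ * (p * g * p⁻¹) * p := by group
  rw [h4]
  exact mul_mem (mul_mem (inv_mem (hPX hp)) (hX h3)) (hPX hp)

/-- **#16862, the end**: `C_G(r_ij) ≤ N_G(V)`. -/
theorem nn_le (hG : IsCharacteristicTwoType G) (hm : 2 ≤ m) (hP : IsParS (S : Subgroup G) P)
    (ev : EvenSet (2 ^ m + 1) (zl (S : Subgroup G) P) P ε) (h0 : Fix0 ε (S : Subgroup G))
    {X : Subgroup G} (hX : IsLoc (S : Subgroup G) X) (hPX : P ≤ X)
    {i j : Fin (2 ^ m + 1)} (hij : i ≠ j) (hNX : NN ε i j ≤ X)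
    (hfus : ∀ g ∈ X, zz ε 0 ≠ g * rr ε i j * g⁻¹)
    (hN : ∃ g ∈ WP ε i j, ¬ g ∈ centralizer (zl (S : Subgroup G) P : Set G)) :
    X ≤ normalizer (zl (S : Subgroup G) P : Set G) := by
  have hfact : Fact (Nat.Prime 2) := ⟨Nat.prime_two⟩
  have h5 : 5 ≤ 2 ^ m + 1 := five_le hm
  set V := zl (S : Subgroup G) P with hV
  set U := zl (S : Subgroup G) X with hU
  have hSX := hX.le
  have hUz : U ≤ zc (o2 X) := hX.zl_le S hG
  have hVU : V ≤ U := zl_le (zc_le_zl _ _) (hPX.trans (le_normalizer_zl _ _))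
  have hzS : zz ε 0 ∈ zc (S : Subgroup G) := (zc_iff hG (by omega) hP ev h0).2 (Or.inr rfl)
  have hr2 := rr_sq ev i j
  have hr1 : rr ε i j ≠ 1 := rr_ne_one ev (by omega) hij
  have hrU : rr ε i j ∈ U := hVU (rr_mem ev i j)
  have hUsq : ∀ u ∈ U, u * u = 1 := fun u hu => by
    have := zc_sq _ _ (hUz hu)
    rwa [pow_two] at this
  have hUc : ∀ a ∈ U, ∀ b ∈ U, a * b = b * a := fun a ha b hb =>
    zc_comm _ _ (hUz ha) _ (hUz hb)
  have hnor : ∀ c ∈ X, ∀ n ∈ U, c * n * c⁻¹ ∈ U := fun c hc n hn =>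
    (mem_normalizer_iff.1 (le_normalizer_zl (S : Subgroup G) X hc) n).1 hn
  -- `O₂(X) ≤ O₂(N_ij)`
  have hOX : o2 X ≤ NN ε i j := by
    intro q hq
    rw [mem_NN]
    exact ((mem_zc.1 (hUz hrU)).2.1 q hq)
  have hOO : o2 X ≤ o2 (NN ε i j) :=
    le_o2 hOX (o2_isPGroup X) (hNX.trans (le_normalizer_o2 X))
  have hUO : U ≤ o2 (NN ε i j) := hUz.trans ((zc_le _).trans hOO)
  obtain ⟨t, ht, htV⟩ := hN
  have htX : t ∈ X := hNX ht.1
  have htU : ∀ u ∈ U, t * u * t⁻¹ = u ∨ t * u * t⁻¹ = u * rr ε i j := by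
    intro u hu
    rcases zpow_cases hr2 (ht.2 u (hUO hu)) with h1 | h1
    · left; exact mul_inv_eq_one.1 h1
    · right
      rw [mul_inv_eq_iff_eq_mul] at h1
      rw [h1]; exact hUc _ hrU _ hu
  have htN : t ∈ normalizer (V : Set G) := by
    have h1 : ∀ v ∈ V, t * v * t⁻¹ ∈ V := by
      intro v hv
      rcases htU v (hVU hv) with h | h
      · rw [h]; exact hv
      · rw [h]; exact mul_mem hv (rr_mem ev i j)
    refine Cfsg.Agent.MinSimple.VModule.mem_normalizer_of_map_le ?_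
    rintro _ ⟨v, hv, rfl⟩
    exact h1 v hv
  have ev' := Norm.evenSet' hm S ev hP.le h0
  obtain ⟨σ, hσ⟩ := ev'.perm t htN
  have hact : Acts ε t (Equiv.swap i j) :=
    (acts_swap h5 ev hij hσ fun v hv => htU v (hVU hv)).resolve_left fun h1 =>
      htV (ev.acts_one_iff.1 h1)
  -- `U = ⟨z_0^X⟩`, `U = ⟨r_ij^X⟩`
  have hgenz : U ≤ closure {x | ∃ c ∈ X, x = c * zz ε 0 * c⁻¹} := by
    refine zl_le (fun x hx => ?_) ?_
    · rcases (zc_iff hG (by omega) hP ev h0).1 hx with rfl | rfl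
      · exact one_mem _
      · exact subset_closure ⟨1, one_mem _, by group⟩
    · exact closure_norm _ _
  have hgenr : U ≤ closure {x | ∃ c ∈ X, x = c * rr ε i j * c⁻¹} := by
    refine zl_le (fun x hx => ?_) (closure_norm _ _)
    rcases (zc_iff hG (by omega) hP ev h0).1 hx with rfl | rfl
    · exact one_mem _
    · refine zz_zero_mem ev (by omega) fun k hk => ?_
      obtain ⟨σ, h1, h2, -⟩ := exists_perm hij hk
      obtain ⟨p, hp, hpσ⟩ := ev.full σ
      refine subset_closure ⟨p, hPX hp, ?_⟩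
      rw [rr_conj hpσ, h1, h2]
  have gs : GSys X U (rr ε i j) :=
    { sq := hUsq
      nor := hnor
      mem := hrU
      ne := hr1
      gen := hgenr
      chain := chain_of hUsq hnor (hVU (zz_mem ev 0)) hgenz hSX S.isPGroup'
        (MinSimple.Basic.not_dvd_relIndex S hSX) (fun s hs => by
          rw [(mem_zc.1 hzS).2.1 s hs]; group) }
  have hUV : U ≤ V := by
    refine eq_of_tv ?_ (by omega) ev hPX hVU hij gs htX htU hact ?_ S.isPGroup' hP.le ?_
    · exact Even.add_one (Nat.even_pow.mpr ⟨even_two, by omega⟩)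
    · rintro ⟨c, hc, h1⟩
      exact hfus c hc h1
    · intro u hu hs
      refine zc_le_zl _ _ (mem_zc.2 ⟨(hX.o2_le S) (zc_le _ (hUz hu)), fun s hs' => ?_,
        by rw [pow_two]; exact hUsq u hu⟩)
      exact mul_inv_eq_iff_eq_mul.1 (hs s hs')
  have hUV' : U = V := le_antisymm hUV hVU
  rw [← hUV']
  exact le_normalizer_zl _ _

end main

end Cfsg.Agent.Omega.NSix.JNot

end

section


/-!
# OMEGA N6, (H2) without (ML) and THEOREM SN: #18920 (helper605) (5), the only place where `J(S)` is used  (helper537)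

`Q0 ε i j = O₂(C_G(r_ij)) ∩ C_G(V)` is the kernel of `λ`; a subgroup of `C_G(r_ij)` fixes `λ` iff it normalises `Q0`.

* `five` : if `C_G(r_ij)` moves `λ` then some minimal parabolic over `T₁ = C_S(r_ij)` in `C_G(r_ij, z_0)` moves `λ`.
Hypotheses: `key` = (3) for `D = ⟨r_ij⟩`; `bl` = THEOREM BL* (#18620, case `J(S) ≤ O₂(P)`); `eight` = #16037 (8) (case
`J(S) ≰ O₂(P)`).
-/

set_option autoImplicit false

namespace Cfsg.Agent.Omega.NSix.HT.Five

open Subgroup Cfsg Cfsg.Agent.Omega.MinPar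
open Cfsg.Agent.ZN (o2 zc zl jj zj)
open Cfsg.Agent.ZN.ChoiceBase (mem_zj AA AA_nonempty)
open Cfsg.Agent.MinSimple.VModule (o2_le o2_isPGroup le_normalizer_o2 le_o2 mem_zc)
open Cfsg.Agent.Omega.S5.Def Cfsg.Agent.Omega.S5.Syl
open Cfsg.Agent.Omega.NSix.Base Cfsg.Agent.Omega.NSix.Basic Cfsg.Agent.Omega.NSix.Engine
open Cfsg.Agent.Omega.NSix.HTwo.LemTwo (In XX KK_le_NN KK_eq)
open Cfsg.Agent.MinSimple.MinParabolic (IsMinPar)
open Cfsg.Agent.Omega.TTn

universe u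

variable {G : Type u} [Group G]

/-- the kernel of `λ : O₂(C_G(r_ij)) → F_2` -/
def Q0 {n : ℕ} (ε : (Fin n → ZMod 2) → G) (i j : Fin n) : Subgroup G := o2 (NN ε i j) ⊓ KK ε

/-- the elements of `C_G(r_ij)` acting on the labels fix `λ` -/
theorem fix_of_acts [Finite G] {n : ℕ} {ε : (Fin n → ZMod 2) → G} {i j : Fin n} {g : G}
    {σ : Equiv.Perm (Fin n)} (hσ : Acts ε g σ) (hg : g ∈ NN ε i j) : g ∈ normalizer (Q0 ε i j : Set G) := by
  refine DiCoreAbs.mem_norm_of fun x hx => ?_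
  refine mem_inf.2 ⟨(mem_normalizer_iff.1 (le_normalizer_o2 _ hg) _).1 hx.1, ?_⟩
  exact Fr.KK_conj hσ hx.2

/-- `λ` is moved by `A` -/
theorem mv_iff [Finite G] {n : ℕ} {ε : (Fin n → ZMod 2) → G} {i j : Fin n} {A : Subgroup G}
    (hA : A ≤ NN ε i j) : (∃ g ∈ A, ∃ q ∈ o2 (NN ε i j), q ∈ KK ε ∧ ¬ g * q * g⁻¹ ∈ KK ε) ↔
      ¬ A ≤ normalizer (Q0 ε i j : Set G) := by
  constructor
  · rintro ⟨g, hg, q, hq, hqK, h1⟩ h2
    exact h1 ((mem_normalizer_iff.1 (h2 hg) q).1 (mem_inf.2 ⟨hq, hqK⟩)).2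
  · intro h1
    by_contra hcon
    push Not at hcon
    refine h1 fun g hg => DiCoreAbs.mem_norm_of fun x hx => mem_inf.2 ⟨?_, hcon g hg x hx.1 hx.2⟩
    exact (mem_normalizer_iff.1 (le_normalizer_o2 _ (hA hg)) _).1 hx.1

section J

variable [Finite G] {S : Sylow 2 G} {P : Subgroup G}

/-- `J(S) ≤ O₂(P)`: `V ≤ Ω₁ Z(J(S))` -/
theorem V_le_zj (hG : IsCharacteristicTwoType G) (hP : IsParS (S : Subgroup G) P)
    (hJ : jj (S : Subgroup G) ≤ o2 P) : zl (S : Subgroup G) P ≤ zj (S : Subgroup G) := by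
  have h1 : zl (S : Subgroup G) P ≤ zc (o2 P) := hP.isLoc.zl_le S hG
  have hS : zl (S : Subgroup G) P ≤ (S : Subgroup G) := JNot.V_le_S hG hP
  intro v hv
  have hv1 := mem_zc.1 (h1 hv)
  have hA : ∀ A ∈ AA (S : Subgroup G), v ∈ A := fun A hA =>
    SQ1.Bau.mem_AA_of_comm hA (hS hv) hv1.2.2 fun a ha => hv1.2.1 a (hJ (ZN.ChoiceBase.le_jj hA ha))
  obtain ⟨A, hA'⟩ := AA_nonempty (S : Subgroup G)
  exact mem_zj.2 ⟨ZN.ChoiceBase.le_jj hA' (hA A hA'), hv1.2.2, fun y hy => hv1.2.1 y (hJ hy)⟩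

/-- `N_G(J(S))`-conjugates of `V` commute -/
theorem comm_of_norm_J (hG : IsCharacteristicTwoType G) (hP : IsParS (S : Subgroup G) P)
    (hJ : jj (S : Subgroup G) ≤ o2 P) {g g' : G} (hg : g ∈ normalizer (jj (S : Subgroup G) : Set G))
    (hg' : g' ∈ normalizer (jj (S : Subgroup G) : Set G)) :
    ∀ v ∈ zl (S : Subgroup G) P, ∀ w ∈ zl (S : Subgroup G) P,
      g * v * g⁻¹ * (g' * w * g'⁻¹) = g' * w * g'⁻¹ * (g * v * g⁻¹) := by
  have key : ∀ g ∈ normalizer (jj (S : Subgroup G) : Set G), ∀ v ∈ zl (S : Subgroup G) P,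
      g * v * g⁻¹ ∈ jj (S : Subgroup G) ∧ ∀ y ∈ jj (S : Subgroup G), y * (g * v * g⁻¹) = g * v * g⁻¹ * y := by
    intro g hg v hv
    have hv1 := mem_zj.1 (V_le_zj hG hP hJ hv)
    refine ⟨(mem_normalizer_iff.1 hg _).1 hv1.1, fun y hy => ?_⟩
    have h1 : g⁻¹ * y * g ∈ jj (S : Subgroup G) := by
      have := (mem_normalizer_iff.1 (inv_mem hg) y).1 hy
      rwa [inv_inv] at this
    have h2 := hv1.2.2 _ h1
    calc y * (g * v * g⁻¹) = g * (g⁻¹ * y * g * v) * g⁻¹ := by group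
      _ = g * (v * (g⁻¹ * y * g)) * g⁻¹ := by rw [h2]
      _ = g * v * g⁻¹ * y := by group
  intro v hv w hw
  exact (key g' hg' w hw).2 _ (key g hg v hv).1

end J

section main

variable [Finite G] {m : ℕ} {S : Sylow 2 G} {P : Subgroup G} {ε : (Fin (2 ^ m + 1) → ZMod 2) → G}
  {i j : Fin (2 ^ m + 1)}

/-- **#18920 (5)** -/
theorem five (h : In S (zl (S : Subgroup G) P) P ε i j) (hG : IsCharacteristicTwoType G)
    (hP : IsParS (S : Subgroup G) P)
    (key : ∀ R : Subgroup G, IsMinPar ((S : Subgroup G) ⊓ NN ε i j) R → R ≤ NN ε i j →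
      ¬ R ≤ normalizer (Q0 ε i j : Set G) →
      (∀ g ∈ R, ∀ g' ∈ R, ∀ v ∈ zl (S : Subgroup G) P, ∀ w ∈ zl (S : Subgroup G) P,
        g * v * g⁻¹ * (g' * w * g'⁻¹) = g' * w * g'⁻¹ * (g * v * g⁻¹)) →
      ∀ v ∈ zl (S : Subgroup G) P, (∀ t ∈ (S : Subgroup G) ⊓ NN ε i j, t * v = v * t) → ∀ r ∈ R, r * v = v * r)
    (bl : jj (S : Subgroup G) ≤ o2 P → ∀ R : Subgroup G, IsMinPar ((S : Subgroup G) ⊓ NN ε i j) R →
      R ≤ NN ε i j → ¬ jj (S : Subgroup G) ≤ o2 R → R ≤ centralizer ({zz ε 0} : Set G))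
    (eight : ¬ jj (S : Subgroup G) ≤ o2 P → ∀ R : Subgroup G, IsMinPar ((S : Subgroup G) ⊓ NN ε i j) R →
      R ≤ NN ε i j → ¬ R ≤ normalizer (zl (S : Subgroup G) P : Set G) →
      ∀ v ∈ zl (S : Subgroup G) P, (∀ t ∈ (S : Subgroup G) ⊓ NN ε i j, t * v = v * t) → ∀ r ∈ R, r * v = v * r)
    (hmv : ¬ NN ε i j ≤ normalizer (Q0 ε i j : Set G)) :
    ∃ R : Subgroup G, IsMinPar ((S : Subgroup G) ⊓ NN ε i j) R ∧ R ≤ NN ε i j ∧
      R ≤ centralizer ({zz ε 0} : Set G) ∧ ¬ R ≤ normalizer (Q0 ε i j : Set G) := by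
  have hL : ∀ g ∈ NN ε i j, g ∈ normalizer (zl (S : Subgroup G) P : Set G) →
      g ∈ normalizer (Q0 ε i j : Set G) := by
    intro g hg hgV
    obtain ⟨σ, hσ⟩ := h.evL.perm g hgV
    exact fix_of_acts hσ hg
  -- `z_0` is centralised by `S`
  have hz : ∀ t ∈ (S : Subgroup G) ⊓ NN ε i j, t * zz ε 0 = zz ε 0 * t := by
    intro t ht
    obtain ⟨σ, hσ⟩ := h.hyp.ev.perm t (h.SP ht.1)
    have h1 := zz_conj hσ 0
    rw [h.fix0 t ht.1 σ hσ] at h1
    exact mul_inv_eq_iff_eq_mul.1 h1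
  obtain ⟨R, hR, hRN, hRmv⟩ : ∃ R : Subgroup G, IsMinPar ((S : Subgroup G) ⊓ NN ε i j) R ∧ R ≤ NN ε i j ∧
      ¬ R ≤ normalizer (Q0 ε i j : Set G) := by
    by_contra hcon
    push Not at hcon
    exact hmv (MinSimple.MinParabolic.le_of_forall inf_le_right
      (fun g hg => hL g hg.1 (h.norm_T_le hg)) hcon)
  refine ⟨R, hR, hRN, ?_, hRmv⟩
  have hRL : ¬ R ≤ normalizer (zl (S : Subgroup G) P : Set G) := fun h1 =>
    hRmv fun g hg => hL g (hRN hg) (h1 hg)
  have hz0 : zz ε 0 ∈ zl (S : Subgroup G) P := zz_mem h.hyp.ev 0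
  have fin : (∀ v ∈ zl (S : Subgroup G) P, (∀ t ∈ (S : Subgroup G) ⊓ NN ε i j, t * v = v * t) →
      ∀ r ∈ R, r * v = v * r) → R ≤ centralizer ({zz ε 0} : Set G) := fun h1 r hr =>
    mem_centralizer_singleton_iff.2 (h1 _ hz0 hz r hr)
  by_cases hJ : jj (S : Subgroup G) ≤ o2 P
  · by_cases hJR : jj (S : Subgroup G) ≤ o2 R
    · refine fin (key R hR hRN hRmv fun g hg g' hg' => ?_)
      have h1 : o2 R ≤ (S : Subgroup G) := (h.o2_le_T' hR.le hRN).trans inf_le_left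
      have h2 : R ≤ normalizer (jj (S : Subgroup G) : Set G) := by
        refine (le_normalizer_o2 R).trans ?_
        have h3 := ZN.normalizer_le_normalizer_jj (o2 R)
        rwa [ZN.jj_eq_of_le hJR h1] at h3
      exact comm_of_norm_J hG hP hJ (h2 hg) (h2 hg')
    · exact bl hJ R hR hRN hJR
  · exact fin (eight hJ R hR hRN hRL)

omit [Finite G] in
/-- the form used in (4): `C_G(r_ij, z_0)` moves `λ` -/
theorem moves {N : Subgroup G} {Q : Subgroup G} {z : G}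
    (h : ∃ R : Subgroup G, R ≤ N ∧ R ≤ centralizer ({z} : Set G) ∧ ¬ R ≤ normalizer (Q : Set G)) :
    ¬ N ⊓ centralizer ({z} : Set G) ≤ normalizer (Q : Set G) := by
  obtain ⟨R, h1, h2, h3⟩ := h
  exact fun h4 => h3 ((le_inf h1 h2).trans h4)

end main

end Cfsg.Agent.Omega.NSix.HT.Five

end

section


/-!
# OMEGA N6, #18323 (helper480) (8)  (helper537)

`V = V_P` even subsets of `2^m + 1` points, `T₁ = C_S(r_ij)` a Sylow 2-subgroup of `C_G(r_ij)` with its normaliser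
(in `C_G(r_ij)`) in `N_G(V)`; every minimal parabolic over `T₁` in `C_G(r_ij)` lies in `N_G(V)` or in `C_G(z_0)`;
`⟨P, C_G(Z)⟩` is 2-local (THEOREM SN); (N).  Then `C_G(r_kl) ≤ N_G(V)` for all pairs and `⟨P, C_G(Z)⟩ ≤ N_G(V)`.
-/

set_option autoImplicit false

namespace Cfsg.Agent.Omega.NSix.HTwo.End

open Subgroup Cfsg Cfsg.Agent.Omega.MinPar
open Cfsg.Agent.ZN (o2 zc zl)
open Cfsg.Agent.Omega.FrameNOFF (CZ)
open Cfsg.Agent.Omega.S5.Def Cfsg.Agent.Omega.S5.Syl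
open Cfsg.Agent.Omega.NSix.Base Cfsg.Agent.Omega.NSix.Basic
open Cfsg.Agent.Omega.NSix.Zero (WP mem_WP)
open Cfsg.Agent.Omega.NSix.JNot
open Cfsg.Agent.MinSimple.MinParabolic (IsMinPar)

universe u

variable {G : Type u} [Group G] [Finite G] {S : Sylow 2 G} {P : Subgroup G} {m : ℕ}
  {ε : (Fin (2 ^ m + 1) → ZMod 2) → G}

omit [Finite G] in
/-- three letters are not `0` modulo complements -/
theorem three_ne {n : ℕ} {V L : Subgroup G} {ε : (Fin n → ZMod 2) → G} (ev : EvenSet n V L ε)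
    (h5 : 5 ≤ n) (i j k : Fin n) : ε (Pi.single i 1 + Pi.single j 1 + Pi.single k 1) ≠ 1 := by
  classical
  intro h1
  obtain ⟨l, hl⟩ : ∃ l : Fin n, l ∉ ({i, j, k} : Finset (Fin n)) := by
    by_contra hcon
    push Not at hcon
    have h8 : (Finset.univ : Finset (Fin n)) ⊆ {i, j, k} := fun l _ => hcon l
    have h9 := Finset.card_le_card h8
    have h10 : ({i, j, k} : Finset (Fin n)).card ≤ 3 := Finset.card_le_three
    rw [Finset.card_univ, Fintype.card_fin] at h9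
    omega
  simp only [Finset.mem_insert, Finset.mem_singleton, not_or] at hl
  have h0 : (Pi.single i 1 + Pi.single j 1 + Pi.single k 1 : Fin n → ZMod 2) l = 0 := by
    simp only [Pi.add_apply]
    rw [Pi.single_eq_of_ne hl.1, Pi.single_eq_of_ne hl.2.1, Pi.single_eq_of_ne hl.2.2]
    rfl
  rcases (ev.ker _).1 h1 with h2 | h2
  · have h3 := congrArg (fun x : Fin n → ZMod 2 => ∑ l, x l) h2
    simp only [Pi.add_apply, Finset.sum_add_distrib, Finset.sum_pi_single', Finset.mem_univ,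
      if_true, Pi.zero_apply, Finset.sum_const_zero] at h3
    revert h3; decide
  · have h3 := congrFun h2 l
    rw [h0, Pi.one_apply] at h3
    exact zero_ne_one h3

/-- `S` does not centralise `r_ij`. -/
theorem not_S_le (hm : 2 ≤ m) (hP : IsParS (S : Subgroup G) P)
    (ev : EvenSet (2 ^ m + 1) (zl (S : Subgroup G) P) P ε) (h0 : Fix0 ε (S : Subgroup G))
    {i j : Fin (2 ^ m + 1)} (hij : i ≠ j) : ¬ (S : Subgroup G) ≤ NN ε i j := by
  intro hS
  have h5 : 5 ≤ 2 ^ m + 1 := five_le hm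
  have h1 := fixed (by omega) ev hP.le (MinSimple.Basic.not_dvd_relIndex S hP.le) h0 (rr_mem ev i j)
    (fun s hs => mem_NN.1 (hS hs))
  rcases h1 with h1 | h1
  · exact rr_ne_one ev (by omega) hij h1
  · -- `{i, j} ≠ {0}` modulo complements
    have h2 : ε (Pi.single i 1 + Pi.single j 1 + Pi.single 0 1) = 1 := by
      rw [ev.add, ev.add]
      change rr ε i j * ε (Pi.single 0 1) = 1
      rw [h1]; exact ev.sq _
    exact three_ne ev h5 _ _ _ h2

/-- `z_0` is not conjugate to `r_ij`. -/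
theorem not_conj (hG : IsCharacteristicTwoType G) (hm : 2 ≤ m) (hP : IsParS (S : Subgroup G) P)
    (ev : EvenSet (2 ^ m + 1) (zl (S : Subgroup G) P) P ε) (h0 : Fix0 ε (S : Subgroup G))
    {i j : Fin (2 ^ m + 1)} (hij : i ≠ j)
    (hT : ¬ 2 ∣ ((S : Subgroup G) ⊓ NN ε i j).relIndex (NN ε i j)) (g : G) :
    zz ε 0 ≠ g * rr ε i j * g⁻¹ := by
  intro he
  have hf : Fact (Nat.Prime 2) := ⟨Nat.prime_two⟩
  have hz : ∀ s ∈ (S : Subgroup G), s * zz ε 0 = zz ε 0 * s := by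
    have h1 : zz ε 0 ∈ zc (S : Subgroup G) := (zc_iff hG (by omega) hP ev h0).2 (Or.inr rfl)
    exact (MinSimple.VModule.mem_zc.1 h1).2.1
  apply not_S_le hm hP ev h0 hij
  set T := (S : Subgroup G) ⊓ NN ε i j with hTdef
  have h1 : (S : Subgroup G).map (MulAut.conj g⁻¹).toMonoidHom ≤ NN ε i j := by
    rintro _ ⟨s, hs, rfl⟩
    rw [mem_NN]
    change g⁻¹ * s * g⁻¹⁻¹ * rr ε i j = rr ε i j * (g⁻¹ * s * g⁻¹⁻¹)
    have h2 := hz s hs
    rw [he] at h2
    calc g⁻¹ * s * g⁻¹⁻¹ * rr ε i j = g⁻¹ * (s * (g * rr ε i j * g⁻¹)) * g := by group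
      _ = rr ε i j * (g⁻¹ * s * g⁻¹⁻¹) := by rw [h2]; group
  have h2 : Nat.card (S : Subgroup G) ∣ Nat.card (NN ε i j) := by
    have h0 : Nat.card ((S : Subgroup G).map (MulAut.conj g⁻¹).toMonoidHom) =
        Nat.card (S : Subgroup G) := Subgroup.card_map_of_injective (MulAut.conj g⁻¹).injective
    rw [← h0]
    exact card_dvd_of_le h1
  have h3 : Nat.card T * T.relIndex (NN ε i j) = Nat.card (NN ε i j) := by
    have h4 := relIndex_mul_relIndex ⊥ T (NN ε i j) bot_le inf_le_right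
    simp only [relIndex_bot_left] at h4
    exact h4
  have h4 : Nat.card (S : Subgroup G) ∣ Nat.card T := by
    rw [← h3] at h2
    refine Nat.Coprime.dvd_of_dvd_mul_right ?_ h2
    obtain ⟨k, hk⟩ := IsPGroup.iff_card.1 S.isPGroup'
    rw [hk]
    exact Nat.Coprime.pow_left k ((Nat.Prime.coprime_iff_not_dvd Nat.prime_two).2 hT)
  have h5 : T = (S : Subgroup G) := eq_of_le_of_card_ge inf_le_left
    (Nat.le_of_dvd Nat.card_pos h4)
  rw [← h5]
  exact inf_le_right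

/-- **#18323 (8)**. -/
theorem nn_le_normalizer (hG : IsCharacteristicTwoType G) (hm : 2 ≤ m) (hP : IsParS (S : Subgroup G) P)
    (ev : EvenSet (2 ^ m + 1) (zl (S : Subgroup G) P) P ε) (h0 : Fix0 ε (S : Subgroup G))
    (hloc : ¬ NonLoc P (CZ (S : Subgroup G))) {i j : Fin (2 ^ m + 1)} (hij : i ≠ j)
    (hT : ¬ 2 ∣ ((S : Subgroup G) ⊓ NN ε i j).relIndex (NN ε i j))
    (hNT : NN ε i j ⊓ normalizer (((S : Subgroup G) ⊓ NN ε i j : Subgroup G) : Set G) ≤
      P ⊔ CZ (S : Subgroup G))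
    (hR : ∀ R : Subgroup G, IsMinPar ((S : Subgroup G) ⊓ NN ε i j) R → R ≤ NN ε i j →
      R ≤ P ⊔ CZ (S : Subgroup G))
    (hN : ∃ k l, k ≠ l ∧ ∃ g ∈ WP ε k l, ¬ g ∈ centralizer (zl (S : Subgroup G) P : Set G)) :
    P ⊔ CZ (S : Subgroup G) ≤ normalizer (zl (S : Subgroup G) P : Set G) ∧
      ∀ k l, k ≠ l → NN ε k l ≤ normalizer (zl (S : Subgroup G) P : Set G) := by
  classical
  have hX : IsLoc (S : Subgroup G) (P ⊔ CZ (S : Subgroup G)) := (not_nonLoc_iff S hP.le).1 hloc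
  set X := P ⊔ CZ (S : Subgroup G) with hXdef
  have hPX : P ≤ X := le_sup_left
  have hNX : NN ε i j ≤ X := Cfsg.Agent.MinSimple.MinParabolic.le_of_forall inf_le_right hNT hR
  obtain ⟨k, l, hkl, hN'⟩ := hN
  have hfus : ∀ g ∈ X, zz ε 0 ≠ g * rr ε k l * g⁻¹ := by
    intro g _ he
    obtain ⟨σ, h1, h2, -⟩ := exists_perm hij hkl
    obtain ⟨p, hp, hpσ⟩ := ev.full σ
    refine not_conj hG hm hP ev h0 hij hT (g * p) ?_
    rw [he, ← h1, ← h2, ← rr_conj hpσ]
    group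
  have hXV : X ≤ normalizer (zl (S : Subgroup G) P : Set G) :=
    nn_le hG hm hP ev h0 hX hPX hkl (NN_le_of_one ev hPX hij hNX hkl) hfus hN'
  exact ⟨hXV, fun a b hab => (NN_le_of_one ev hPX hij hNX hab).trans hXV⟩

/-- `N_G(V)`, `C_G(z_0) ≤ ⟨P, C_G(Z)⟩`. -/
theorem le_sup (hG : IsCharacteristicTwoType G) (hm : 2 ≤ m) (hP : IsParS (S : Subgroup G) P)
    (ev : EvenSet (2 ^ m + 1) (zl (S : Subgroup G) P) P ε) (h0 : Fix0 ε (S : Subgroup G)) :
    normalizer (zl (S : Subgroup G) P : Set G) ≤ P ⊔ CZ (S : Subgroup G) ∧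
      centralizer ({zz ε 0} : Set G) ≤ P ⊔ CZ (S : Subgroup G) := by
  have hCX : centralizer ({zz ε 0} : Set G) ≤ P ⊔ CZ (S : Subgroup G) := by
    refine le_trans ?_ le_sup_right
    intro x hx
    rw [mem_centralizer_singleton_iff] at hx
    rw [CZ, mem_centralizer_iff]
    intro y hy
    rcases (zc_iff hG (by omega) hP ev h0).1 hy with rfl | rfl
    · rw [one_mul, mul_one]
    · exact hx.symm
  exact ⟨normalizer_le hm hP ev h0 le_sup_left hCX, hCX⟩

end Cfsg.Agent.Omega.NSix.HTwo.End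

end

end

private theorem dce_99cd425dd6a0 : _root_.True := by
  try have : _root_.True := by simp only [_root_.Cfsg.Agent.Omega.NSix.TvEnd.pr.eq_1]
  try have : _root_.True := by simp only [_root_.Cfsg.Agent.Omega.FrameNOFF.CZ.eq_1]
  exact _root_.True.intro
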